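import Mathlib.GroupTheory.Sylow
import Mathlib.Tactic

/-!
# Subgroups of order `p³` generated by `y, c, u` with `u y = y c u`, `c` central (helper842)

* `card_eq` : the group `{u^k y^i c^j}` has order `p³`.
* `conj_cases` : every nontrivial element has a power conjugate to `c`, `y` or `u y^i`, `i < p`.
-/

set_option autoImplicit false

namespace Cfsg.Agent.H842.Heis

variable {G : Type*} [Group G] {p : ℕ} {y c u : G}

/-- the hypotheses -/
structure Dat (p : ℕ) (y c u : G) : Prop where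
  hp : p.Prime
  yp : y ^ p = 1
  cp : c ^ p = 1
  up : u ^ p = 1
  c1 : c ≠ 1
  cy : c * y = y * c
  cu : c * u = u * c
  uy : u * y = y * c * u

namespace Dat

theorem pow_mod {g : G} (h : g ^ p = 1) (n : ℕ) : g ^ (n % p) = g ^ n := by
  conv_rhs => rw [← Nat.div_add_mod n p, pow_add, pow_mul, h, one_pow, one_mul]

variable (h : Dat p y c u)
include h

theorem pos : 0 < p := h.hp.pos

theorem u_pow_y (a : ℕ) : u ^ a * y = y * c ^ a * u ^ a := by
  induction a with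
  | zero => simp
  | succ a ih =>
    have hc : Commute c (u ^ a) := (show Commute c u from h.cu).pow_right a
    calc u ^ (a + 1) * y = u ^ a * (u * y) := by rw [pow_succ, mul_assoc]
      _ = u ^ a * (y * c * u) := by rw [h.uy]
      _ = (u ^ a * y) * c * u := by simp only [mul_assoc]
      _ = y * c ^ a * (u ^ a * c) * u := by rw [ih]; simp only [mul_assoc]
      _ = y * c ^ a * (c * u ^ a) * u := by rw [hc.eq]
      _ = y * c ^ (a + 1) * u ^ (a + 1) := by rw [pow_succ c, pow_succ u]; simp only [mul_assoc]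

theorem u_pow_y_pow (a i : ℕ) : u ^ a * y ^ i = y ^ i * c ^ (a * i) * u ^ a := by
  induction i with
  | zero => simp
  | succ i ih =>
    have hc : Commute (c ^ (a * i)) y := (show Commute c y from h.cy).pow_left _
    calc u ^ a * y ^ (i + 1) = (u ^ a * y ^ i) * y := by rw [pow_succ, mul_assoc]
      _ = y ^ i * c ^ (a * i) * (u ^ a * y) := by rw [ih]; simp only [mul_assoc]
      _ = y ^ i * (c ^ (a * i) * y) * c ^ a * u ^ a := by rw [h.u_pow_y]; simp only [mul_assoc]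
      _ = y ^ i * y * (c ^ (a * i) * c ^ a) * u ^ a := by rw [hc.eq]; simp only [mul_assoc]
      _ = y ^ (i + 1) * c ^ (a * (i + 1)) * u ^ a := by rw [← pow_add, pow_succ, mul_add, mul_one]

theorem cyi (i j : ℕ) : Commute (c ^ j) (y ^ i) := (show Commute c y from h.cy).pow_pow j i

theorem cui (i j : ℕ) : Commute (c ^ j) (u ^ i) := (show Commute c u from h.cu).pow_pow j i

/-- `y^i u^a = u^a y^i c^((p-1) a i)` -/
theorem y_pow_u_pow (a i : ℕ) : y ^ i * u ^ a = u ^ a * y ^ i * c ^ ((p - 1) * (a * i)) := by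
  have h1 := h.u_pow_y_pow a i
  have h2 : c ^ (a * i) * c ^ ((p - 1) * (a * i)) = 1 := by
    rw [← pow_add]
    have h3 : a * i + (p - 1) * (a * i) = p * (a * i) := by
      obtain ⟨q, hq⟩ : ∃ q, p = q + 1 := ⟨p - 1, by have := h.pos; omega⟩
      rw [hq, Nat.add_sub_cancel]; ring
    rw [h3, pow_mul, h.cp, one_pow]
  calc y ^ i * u ^ a = y ^ i * u ^ a * (c ^ (a * i) * c ^ ((p - 1) * (a * i))) := by rw [h2, mul_one]
    _ = y ^ i * (u ^ a * c ^ (a * i)) * c ^ ((p - 1) * (a * i)) := by simp only [mul_assoc]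
    _ = y ^ i * (c ^ (a * i) * u ^ a) * c ^ ((p - 1) * (a * i)) := by rw [(h.cui a (a * i)).eq]
    _ = (y ^ i * c ^ (a * i) * u ^ a) * c ^ ((p - 1) * (a * i)) := by simp only [mul_assoc]
    _ = u ^ a * y ^ i * c ^ ((p - 1) * (a * i)) := by rw [← h1]

theorem mul_form (k i j k' i' j' : ℕ) : (u ^ k * y ^ i * c ^ j) * (u ^ k' * y ^ i' * c ^ j') =
    u ^ (k + k') * y ^ (i + i') * c ^ ((p - 1) * (k' * i) + j + j') := by
  calc (u ^ k * y ^ i * c ^ j) * (u ^ k' * y ^ i' * c ^ j')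
      = u ^ k * y ^ i * (c ^ j * u ^ k') * y ^ i' * c ^ j' := by simp only [mul_assoc]
    _ = u ^ k * (y ^ i * u ^ k') * (c ^ j * y ^ i') * c ^ j' := by rw [(h.cui k' j).eq]; simp only [mul_assoc]
    _ = u ^ k * u ^ k' * y ^ i * (c ^ ((p - 1) * (k' * i)) * y ^ i') * c ^ j * c ^ j' := by
        rw [h.y_pow_u_pow, (h.cyi i' j).eq]; simp only [mul_assoc]
    _ = (u ^ k * u ^ k') * (y ^ i * y ^ i') * (c ^ ((p - 1) * (k' * i)) * c ^ j * c ^ j') := by
        rw [(h.cyi i' _).eq]; simp only [mul_assoc]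
    _ = _ := by rw [← pow_add, ← pow_add, ← pow_add, ← pow_add]

theorem pow_form (k i j m : ℕ) : ∃ j', (u ^ k * y ^ i * c ^ j) ^ m = u ^ (k * m) * y ^ (i * m) * c ^ j' := by
  induction m with
  | zero => exact ⟨0, by simp⟩
  | succ m ih =>
    obtain ⟨j', hj⟩ := ih
    refine ⟨(p - 1) * (k * (i * m)) + j' + j, ?_⟩
    rw [pow_succ, hj, h.mul_form, mul_add, mul_one, mul_add, mul_one]

/-- the subgroup -/
def P : Subgroup G where
  carrier := {g | ∃ k i j : ℕ, g = u ^ k * y ^ i * c ^ j}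
  mul_mem' := by
    rintro _ _ ⟨k, i, j, rfl⟩ ⟨k', i', j', rfl⟩
    exact ⟨_, _, _, h.mul_form k i j k' i' j'⟩
  one_mem' := ⟨0, 0, 0, by simp⟩
  inv_mem' := by
    rintro _ ⟨k, i, j, rfl⟩
    have h1 : ∀ {g : G} (_ : g ^ p = 1) (n : ℕ), (g ^ n)⁻¹ = g ^ (n * (p - 1)) := by
      intro g hg n
      rw [inv_eq_iff_mul_eq_one, ← pow_add]
      have h3 : n + n * (p - 1) = p * n := by
        obtain ⟨q, hq⟩ : ∃ q, p = q + 1 := ⟨p - 1, by have := h.pos; omega⟩
        rw [hq, Nat.add_sub_cancel]; ring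
      rw [h3, pow_mul, hg, one_pow]
    refine ⟨k * (p - 1), i * (p - 1), (p - 1) * ((k * (p - 1)) * (i * (p - 1))) + j * (p - 1), ?_⟩
    calc (u ^ k * y ^ i * c ^ j)⁻¹ = (c ^ j)⁻¹ * ((y ^ i)⁻¹ * (u ^ k)⁻¹) := by group
      _ = c ^ (j * (p - 1)) * (y ^ (i * (p - 1)) * u ^ (k * (p - 1))) := by rw [h1 h.cp, h1 h.yp, h1 h.up]
      _ = c ^ (j * (p - 1)) * (u ^ (k * (p - 1)) * y ^ (i * (p - 1)) *
            c ^ ((p - 1) * ((k * (p - 1)) * (i * (p - 1))))) := by rw [h.y_pow_u_pow]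
      _ = (c ^ (j * (p - 1)) * u ^ (k * (p - 1))) * y ^ (i * (p - 1)) *
            c ^ ((p - 1) * ((k * (p - 1)) * (i * (p - 1)))) := by simp only [mul_assoc]
      _ = u ^ (k * (p - 1)) * (c ^ (j * (p - 1)) * y ^ (i * (p - 1))) *
            c ^ ((p - 1) * ((k * (p - 1)) * (i * (p - 1)))) := by rw [(h.cui _ _).eq]; simp only [mul_assoc]
      _ = u ^ (k * (p - 1)) * y ^ (i * (p - 1)) *
            (c ^ (j * (p - 1)) * c ^ ((p - 1) * ((k * (p - 1)) * (i * (p - 1))))) := by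
          rw [(h.cyi _ _).eq]; simp only [mul_assoc]
      _ = _ := by rw [← pow_add, add_comm]

theorem mem_P {g : G} : g ∈ h.P ↔ ∃ k i j : ℕ, g = u ^ k * y ^ i * c ^ j := Iff.rfl

theorem c_inj {a b : ℕ} (hab : c ^ a = c ^ b) : a % p = b % p := by
  have h1 : orderOf c = p := by
    have := Fact.mk h.hp
    exact orderOf_eq_prime h.cp h.c1
  have h2 := pow_inj_mod.1 hab
  rwa [h1] at h2

/-- uniqueness of the form -/
theorem form_one {k i j : ℕ} (hg : u ^ k * y ^ i * c ^ j = 1) : k % p = 0 ∧ i % p = 0 ∧ j % p = 0 := by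
  -- conjugate `y`
  have hu : u ^ k = (y ^ i * c ^ j)⁻¹ := by
    rw [eq_inv_iff_mul_eq_one, ← mul_assoc]; exact hg
  have h1 : u ^ k * y = y * u ^ k := by
    have h2 : Commute (y ^ i * c ^ j) y := ((Commute.refl y).pow_left i).mul_left
      ((show Commute c y from h.cy).pow_left j)
    rw [hu]
    exact h2.inv_left.eq
  have h3 : c ^ k = c ^ 0 := by
    rw [h.u_pow_y] at h1
    have h4 : y * c ^ k * u ^ k = y * 1 * u ^ k := by rw [h1, mul_one]
    have h5 := mul_left_cancel (mul_right_cancel h4)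
    rw [h5, pow_zero]
  have hk : k % p = 0 := by
    have := h.c_inj h3
    rwa [Nat.zero_mod] at this
  have hk1 : u ^ k = 1 := by rw [← pow_mod h.up, hk, pow_zero]
  rw [hk1, one_mul] at hg
  have hy : y ^ i = (c ^ j)⁻¹ := eq_inv_of_mul_eq_one_left hg
  have h6 : u * y ^ i = y ^ i * u := by
    rw [hy]
    exact ((show Commute u c from h.cu.symm).pow_right j).inv_right.eq
  have h7 := h.u_pow_y_pow 1 i
  rw [pow_one, one_mul, h6] at h7
  have h8 : c ^ 0 = c ^ i := by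
    have h9 : y ^ i * 1 * u = y ^ i * c ^ i * u := by rw [mul_one]; exact h7
    rw [pow_zero]
    exact mul_left_cancel (mul_right_cancel h9)
  have hi : i % p = 0 := by
    have := (h.c_inj h8).symm
    rwa [Nat.zero_mod] at this
  have hi1 : y ^ i = 1 := by rw [← pow_mod h.yp, hi, pow_zero]
  rw [hi1, one_mul] at hg
  refine ⟨hk, hi, ?_⟩
  have h10 : c ^ j = c ^ 0 := by rw [hg, pow_zero]
  have := h.c_inj h10
  rwa [Nat.zero_mod] at this

theorem form_inj {k i j k' i' j' : ℕ} (hg : u ^ k * y ^ i * c ^ j = u ^ k' * y ^ i' * c ^ j') :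
    k % p = k' % p ∧ i % p = i' % p ∧ j % p = j' % p := by
  obtain ⟨q, hq⟩ : ∃ q, p = q + 1 := ⟨p - 1, by have := h.pos; omega⟩
  -- `u^(k + (p-1) k') ... = 1`
  have h0 : ∀ {g : G} (_ : g ^ p = 1) (n : ℕ), (g ^ n)⁻¹ = g ^ (n * (p - 1)) := by
    intro g hg n
    rw [inv_eq_iff_mul_eq_one, ← pow_add]
    have h3 : n + n * (p - 1) = p * n := by rw [hq, Nat.add_sub_cancel]; ring
    rw [h3, pow_mul, hg, one_pow]
  have h1 : u ^ (k' * (p - 1) + k) * y ^ i * c ^ j = y ^ i' * c ^ j' := by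
    rw [pow_add, ← h0 h.up]
    calc (u ^ k')⁻¹ * u ^ k * y ^ i * c ^ j = (u ^ k')⁻¹ * (u ^ k * y ^ i * c ^ j) := by simp only [mul_assoc]
      _ = _ := by rw [hg]; group
  have h2 : u ^ (k' * (p - 1) + k) * y ^ (i + i' * (p - 1)) * c ^ (j + j' * (p - 1)) = 1 := by
    rw [pow_add y, pow_add c, ← h0 h.yp, ← h0 h.cp]
    have hc := h.cyi i' j
    calc u ^ (k' * (p - 1) + k) * (y ^ i * (y ^ i')⁻¹) * (c ^ j * (c ^ j')⁻¹)
        = u ^ (k' * (p - 1) + k) * y ^ i * ((y ^ i')⁻¹ * c ^ j) * (c ^ j')⁻¹ := by simp only [mul_assoc]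
      _ = u ^ (k' * (p - 1) + k) * y ^ i * (c ^ j * (y ^ i')⁻¹) * (c ^ j')⁻¹ := by rw [hc.inv_right.eq]
      _ = (u ^ (k' * (p - 1) + k) * y ^ i * c ^ j) * ((y ^ i')⁻¹ * (c ^ j')⁻¹) := by simp only [mul_assoc]
      _ = y ^ i' * c ^ j' * ((y ^ i')⁻¹ * (c ^ j')⁻¹) := by rw [h1]
      _ = y ^ i' * c ^ j' * ((c ^ j' * y ^ i')⁻¹) := by rw [mul_inv_rev]
      _ = 1 := by rw [(h.cyi i' j').eq]; group
  obtain ⟨e1, e2, e3⟩ := h.form_one h2
  have key : ∀ a b : ℕ, (a + b * (p - 1)) % p = 0 → a % p = b % p := by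
    intro a b hab
    rw [hq, Nat.add_sub_cancel] at hab
    have h3 : (q + 1) ∣ a + b * q := Nat.dvd_of_mod_eq_zero hab
    have h4 : a ≡ b [MOD (q + 1)] := by
      have h5 : (a : ℤ) ≡ b [ZMOD ((q + 1 : ℕ) : ℤ)] := by
        rw [Int.modEq_iff_dvd]
        obtain ⟨r, hr⟩ := h3
        refine ⟨(b : ℤ) - r, ?_⟩
        have h6 : (a : ℤ) + b * q = (q + 1) * r := by exact_mod_cast hr
        push_cast
        linear_combination -h6
      exact (Int.natCast_modEq_iff).1 h5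
    rw [hq]
    exact h4
  refine ⟨key k k' (by rwa [add_comm]), key i i' e2, key j j' e3⟩

/-- the order -/
theorem card_P : Nat.card ↥h.P = p ^ 3 := by
  have hp := h.pos
  let f : Fin p × Fin p × Fin p → h.P := fun x => ⟨u ^ (x.1 : ℕ) * y ^ (x.2.1 : ℕ) * c ^ (x.2.2 : ℕ), _, _, _, rfl⟩
  have hf : Function.Bijective f := by
    constructor
    · rintro ⟨a, b, d⟩ ⟨a', b', d'⟩ hab
      obtain ⟨h1, h2, h3⟩ := h.form_inj (congrArg Subtype.val hab)
      rw [Nat.mod_eq_of_lt a.2, Nat.mod_eq_of_lt a'.2] at h1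
      rw [Nat.mod_eq_of_lt b.2, Nat.mod_eq_of_lt b'.2] at h2
      rw [Nat.mod_eq_of_lt d.2, Nat.mod_eq_of_lt d'.2] at h3
      rw [Prod.mk.injEq, Prod.mk.injEq]
      exact ⟨Fin.ext h1, Fin.ext h2, Fin.ext h3⟩
    · rintro ⟨_, k, i, j, rfl⟩
      refine ⟨⟨⟨k % p, Nat.mod_lt _ hp⟩, ⟨i % p, Nat.mod_lt _ hp⟩, ⟨j % p, Nat.mod_lt _ hp⟩⟩, Subtype.ext ?_⟩
      show u ^ (k % p) * y ^ (i % p) * c ^ (j % p) = _
      rw [pow_mod h.up, pow_mod h.yp, pow_mod h.cp]
  rw [← Nat.card_eq_of_bijective f hf, Nat.card_prod, Nat.card_prod, Nat.card_fin]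
  ring

/-- **Classification of the cyclic subgroups up to conjugacy.** -/
theorem conj_cases {z : G} (hz : z ∈ h.P) (hz1 : z ≠ 1) : ∃ (g : G) (m : ℕ),
    g * z ^ m * g⁻¹ = c ∨ g * z ^ m * g⁻¹ = y ∨ ∃ i < p, g * z ^ m * g⁻¹ = u * y ^ i := by
  have := Fact.mk h.hp
  obtain ⟨k, i, j, rfl⟩ := hz
  have inv : ∀ a : ℕ, a % p ≠ 0 → ∃ m : ℕ, (a * m) % p = 1 := by
    intro a ha
    have h1 : (a : ZMod p) ≠ 0 := by
      intro h2
      rw [ZMod.natCast_eq_zero_iff] at h2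
      exact ha (Nat.mod_eq_zero_of_dvd h2)
    refine ⟨((a : ZMod p)⁻¹).val, ?_⟩
    have h2 : ((a * ((a : ZMod p)⁻¹).val : ℕ) : ZMod p) = ((1 : ℕ) : ZMod p) := by
      push_cast
      rw [ZMod.natCast_zmod_val, mul_inv_cancel₀ h1]
    rw [ZMod.natCast_eq_natCast_iff'] at h2
    rw [h2, Nat.mod_eq_of_lt h.hp.one_lt]
  by_cases hk : k % p = 0
  · have hk1 : u ^ k = 1 := by rw [← pow_mod h.up, hk, pow_zero]
    by_cases hi : i % p = 0
    · have hi1 : y ^ i = 1 := by rw [← pow_mod h.yp, hi, pow_zero]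
      have hj : j % p ≠ 0 := by
        intro hj
        apply hz1
        rw [hk1, hi1, ← pow_mod h.cp, hj]
        simp
      obtain ⟨m, hm⟩ := inv j hj
      refine ⟨1, m, Or.inl ?_⟩
      rw [hk1, hi1, one_mul, one_mul, one_mul, inv_one, mul_one, ← pow_mul, ← pow_mod h.cp, hm, pow_one]
    · obtain ⟨m, hm⟩ := inv i hi
      obtain ⟨j', hj⟩ := h.pow_form k i j m
      have h1 : (u ^ k * y ^ i * c ^ j) ^ m = y * c ^ j' := by
        have e1 : u ^ (k * m) = 1 := by rw [pow_mul, hk1, one_pow]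
        rw [hj, e1, one_mul, ← pow_mod h.yp (i * m), hm, pow_one]
      refine ⟨u ^ ((p - 1) * j'), m, Or.inr (Or.inl ?_)⟩
      have hc : Commute (c ^ j') (u ^ ((p - 1) * j'))⁻¹ := (h.cui _ _).inv_right
      have e2 : c ^ ((p - 1) * j') * c ^ j' = 1 := by
        rw [← pow_add]
        obtain ⟨q, hq⟩ : ∃ q, p = q + 1 := ⟨p - 1, by have := h.pos; omega⟩
        have h3 : (p - 1) * j' + j' = p * j' := by rw [hq, Nat.add_sub_cancel]; ring
        rw [h3, pow_mul, h.cp, one_pow]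
      rw [h1]
      calc u ^ ((p - 1) * j') * (y * c ^ j') * (u ^ ((p - 1) * j'))⁻¹
          = (u ^ ((p - 1) * j') * y) * (c ^ j' * (u ^ ((p - 1) * j'))⁻¹) := by simp only [mul_assoc]
        _ = (y * c ^ ((p - 1) * j') * u ^ ((p - 1) * j')) * ((u ^ ((p - 1) * j'))⁻¹ * c ^ j') := by
            rw [h.u_pow_y, hc.eq]
        _ = y * (c ^ ((p - 1) * j') * c ^ j') := by group
        _ = y := by rw [e2, mul_one]
  · obtain ⟨m, hm⟩ := inv k hk
    obtain ⟨j', hj⟩ := h.pow_form k i j m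
    have h1 : (u ^ k * y ^ i * c ^ j) ^ m = u * y ^ (i * m % p) * c ^ j' := by
      rw [hj, ← pow_mod h.up (k * m), hm, pow_one, pow_mod h.yp]
    refine ⟨y ^ j', m, Or.inr (Or.inr ⟨i * m % p, Nat.mod_lt _ h.pos, ?_⟩)⟩
    rw [h1]
    generalize i * m % p = r
    have e1 : u * y ^ j' = y ^ j' * c ^ j' * u := by
      have := h.u_pow_y_pow 1 j'
      rwa [pow_one, one_mul] at this
    have hc2 : Commute (c ^ j') (y ^ r) := h.cyi r j'
    have hc3 : Commute (c ^ j') u := (show Commute c u from h.cu).pow_left j'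
    have hc1 : Commute (c ^ j') (y ^ j')⁻¹ := (h.cyi _ _).inv_right
    have hyy : Commute (y ^ r) (y ^ j')⁻¹ := ((Commute.refl y).pow_pow r j').inv_right
    have e2 : y ^ j' * u * c ^ j' = u * y ^ j' := by
      rw [e1, mul_assoc, mul_assoc, hc3.eq]
    calc y ^ j' * (u * y ^ r * c ^ j') * (y ^ j')⁻¹
        = y ^ j' * u * (y ^ r * c ^ j') * (y ^ j')⁻¹ := by simp only [mul_assoc]
      _ = y ^ j' * u * (c ^ j' * y ^ r) * (y ^ j')⁻¹ := by rw [hc2.eq]
      _ = (y ^ j' * u * c ^ j') * (y ^ r * (y ^ j')⁻¹) := by simp only [mul_assoc]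
      _ = u * y ^ j' * ((y ^ j')⁻¹ * y ^ r) := by rw [e2, hyy.eq]
      _ = u * y ^ r := by group

end Dat

end Cfsg.Agent.H842.Heis
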