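import Cfsg.Agent.H842.Frame

/-!
# Elements of order 3 of the monomial group (helper842)

* `cases_P` : an element of order 3 of `P` is conjugate (or its inverse) to `R (rep k)`, `k : Fin 6`, or to `x5`.
-/

set_option autoImplicit false

namespace Cfsg.Agent.H842.Frame

open Equiv Subgroup Dat

/-- the monomial group and the element `κ` -/
structure Full (G : Type*) [Group G] extends Dat G where
  hone : toDat.R (fun _ => 1) = 1
  κ : G
  k1 : κ * S c1 * κ⁻¹ = toDat.r 0 * (toDat.r 1)⁻¹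
  k3 : Commute κ (toDat.r 3)
  k4 : Commute κ (toDat.r 4)
  k5 : Commute κ (toDat.r 5)
  kS : Commute κ (S c2)

/-- the representatives -/
def rep : Fin 6 → Fin 6 → ZMod 3 :=
  ![![0, 0, 0, 0, 0, 1], ![0, 0, 0, 0, 1, 1], ![0, 0, 0, 1, 1, 2], ![0, 0, 0, 0, 1, 2], ![0, 0, 0, 1, 1, 1],
    ![0, 0, 1, 1, 2, 2]]

/-- conjugate or conjugate to the inverse under `N` -/
def Cj {G : Type*} [Group G] (N : Subgroup G) (y z : G) : Prop := ∃ g ∈ N, g * y * g⁻¹ = z ∨ g * y * g⁻¹ = z⁻¹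

section Cj

variable {G : Type*} [Group G] {N : Subgroup G}

theorem Cj.refl (y : G) : Cj N y y := ⟨1, N.one_mem, Or.inl (by group)⟩

theorem Cj.inv (y : G) : Cj N y y⁻¹ := ⟨1, N.one_mem, Or.inr (by group)⟩

theorem Cj.of {y z g : G} (hg : g ∈ N) (h : g * y * g⁻¹ = z) : Cj N y z := ⟨g, hg, Or.inl h⟩

theorem Cj.symm {y z : G} (h : Cj N y z) : Cj N z y := by
  obtain ⟨g, hg, h | h⟩ := h
  · exact ⟨g⁻¹, N.inv_mem hg, Or.inl (by rw [← h]; group)⟩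
  · refine ⟨g⁻¹, N.inv_mem hg, Or.inr ?_⟩
    have h1 : z = g * y⁻¹ * g⁻¹ := by
      rw [eq_comm, ← inv_inj, ← h]; group
    rw [h1]; group

theorem Cj.trans {y z w : G} (h : Cj N y z) (h' : Cj N z w) : Cj N y w := by
  obtain ⟨g, hg, h⟩ := h
  obtain ⟨k, hk, h'⟩ := h'
  refine ⟨k * g, N.mul_mem hk hg, ?_⟩
  have e : k * g * y * (k * g)⁻¹ = k * (g * y * g⁻¹) * k⁻¹ := by group
  rw [e]
  rcases h with h | h <;> rcases h' with h' | h'
  · left; rw [h, h']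
  · right; rw [h, h']
  · right; rw [h, ← h']; group
  · left
    rw [h]
    have : k * z⁻¹ * k⁻¹ = (k * z * k⁻¹)⁻¹ := by group
    rw [this, h', inv_inv]

end Cj

/-! ### Functions with the same numbers of values -/

/-- the number of indices with value `v` -/
def cnt (e : Fin 6 → ZMod 3) (v : ZMod 3) : ℕ := (Finset.univ.filter fun i => e i = v).card

theorem exists_perm_of_cnt {e f : Fin 6 → ZMod 3} (h : ∀ v, cnt e v = cnt f v) : ∃ σ : Perm (Fin 6), ∀ i, e (σ i) = f i := by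
  have h1 : ∀ v, Nonempty ({i // f i = v} ≃ {i // e i = v}) := by
    intro v
    refine ⟨Fintype.equivOfCardEq ?_⟩
    rw [Fintype.card_subtype, Fintype.card_subtype]
    exact (h v).symm
  let σ : Perm (Fin 6) := (Equiv.sigmaFiberEquiv f).symm.trans
    ((Equiv.sigmaCongrRight fun v => (h1 v).some).trans (Equiv.sigmaFiberEquiv e))
  refine ⟨σ, fun i => ?_⟩
  exact ((h1 (f i)).some ⟨i, rfl⟩).2

theorem cnt_sum (e : Fin 6 → ZMod 3) : cnt e 0 + cnt e 1 + cnt e 2 = 6 := by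
  have h1 : ∀ i : Fin 6, (if e i = 0 then 1 else 0) + (if e i = 1 then 1 else 0) + (if e i = 2 then 1 else 0) = 1 := by
    intro i
    have : ∀ k : ZMod 3, (if k = 0 then 1 else 0) + (if k = 1 then 1 else 0) + (if k = 2 then 1 else 0) = 1 := by decide
    exact this (e i)
  unfold cnt
  rw [Finset.card_filter, Finset.card_filter, Finset.card_filter, ← Finset.sum_add_distrib, ← Finset.sum_add_distrib,
    Finset.sum_congr rfl fun i _ => h1 i]
  simp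

theorem cnt_affine (e : Fin 6 → ZMod 3) (s c : ZMod 3) (hs : s * s = 1) (v : ZMod 3) :
    cnt (fun i => s * e i + c) v = cnt e (s * (v - c)) := by
  unfold cnt
  congr 1
  ext i
  simp only [Finset.mem_filter, Finset.mem_univ, true_and]
  constructor
  · rintro rfl
    have : s * (s * e i + c - c) = s * s * e i := by ring
    rw [this, hs, one_mul]
  · intro h
    rw [h]
    have : s * (s * (v - c)) + c = s * s * (v - c) + c := by ring
    rw [this, hs]; ring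

/-- the counts of the representatives -/
def rc : Fin 6 → ZMod 3 → Fin 7 :=
  ![![5, 1, 0], ![4, 2, 0], ![3, 2, 1], ![4, 1, 1], ![3, 3, 0], ![2, 2, 2]]

theorem rc_eq : ∀ (k : Fin 6) (v : ZMod 3), cnt (rep k) v = (rc k v : ℕ) := by decide

set_option maxRecDepth 10000 in
theorem table : ∀ a b : Fin 7, (a : ℕ) + b ≤ 6 → (a : ℕ) ≠ 6 → (b : ℕ) ≠ 6 → (a : ℕ) + b ≠ 0 →
    ∃ s : ZMod 3, s * s = 1 ∧ ∃ (c : ZMod 3) (k : Fin 6), ∀ v : ZMod 3,
      (![(a : ℕ), b, 6 - a - b] : Fin 3 → ℕ) (s * (v - c)) = (rc k v : ℕ) := by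
  decide +kernel

theorem exists_rep (e : Fin 6 → ZMod 3) (he : ¬ ∀ i j, e i = e j) :
    ∃ s : ZMod 3, s * s = 1 ∧ ∃ (c : ZMod 3) (k : Fin 6) (σ : Perm (Fin 6)), ∀ i, s * e (σ i) + c = rep k i := by
  have h0 := cnt_sum e
  have hne : ∀ v, cnt e v ≠ 6 := by
    intro v hv
    apply he
    have h1 : (Finset.univ.filter fun i => e i = v) = Finset.univ := by
      apply Finset.eq_univ_of_card
      rw [Fintype.card_fin]; exact hv
    have h2 : ∀ i, e i = v := by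
      intro i
      have : i ∈ (Finset.univ.filter fun i => e i = v) := by rw [h1]; exact Finset.mem_univ i
      exact (Finset.mem_filter.1 this).2
    intro i j
    rw [h2, h2]
  obtain ⟨s, hs, c, k, h⟩ := table ⟨cnt e 0, by omega⟩ ⟨cnt e 1, by omega⟩ (by show cnt e 0 + cnt e 1 ≤ 6; omega)
    (hne 0) (hne 1) (by have := hne 2; show cnt e 0 + cnt e 1 ≠ 0; omega)
  have h3 : ∀ v : ZMod 3, (![cnt e 0, cnt e 1, 6 - cnt e 0 - cnt e 1] : Fin 3 → ℕ) v = cnt e v := by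
    have h4 : ∀ v : ZMod 3, v = 0 ∨ v = 1 ∨ v = 2 := by decide
    intro v
    rcases h4 v with rfl | rfl | rfl
    · rfl
    · rfl
    · show 6 - cnt e 0 - cnt e 1 = cnt e 2
      omega
  obtain ⟨σ, hσ⟩ := exists_perm_of_cnt (e := fun i => s * e i + c) (f := rep k) (by
    intro v
    rw [cnt_affine e s c hs, rc_eq, ← h v]
    exact (h3 _).symm)
  exact ⟨s, hs, c, k, σ, hσ⟩

/-! ### The classification -/

namespace Full

variable {G : Type*} [Group G] (d : Full G) (N : Subgroup G) (hR : ∀ e, d.R e ∈ N) (hS : ∀ σ, d.S σ ∈ N) (hκ : d.κ ∈ N)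

/-- the fifth element -/
noncomputable def x5 : G := d.R ![1, 0, 0, 1, 0, 0] * d.S (q 1 1)

theorem conjS (π σ : Perm (Fin 6)) (e : Fin 6 → ZMod 3) :
    d.S π * (d.R e * d.S σ) * (d.S π)⁻¹ = d.R (fun i => e (π⁻¹ i)) * d.S (π * σ * π⁻¹) := by
  rw [map_mul, map_mul, map_inv, ← R_conj]; group

theorem conjR (f e : Fin 6 → ZMod 3) (σ : Perm (Fin 6)) :
    d.R f * (d.R e * d.S σ) * (d.R f)⁻¹ = d.R (fun i => e i + f i - f (σ⁻¹ i)) * d.S σ := by
  have h1 : d.S σ * (d.R f)⁻¹ = (d.R fun i => f (σ⁻¹ i))⁻¹ * d.S σ := by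
    rw [eq_inv_mul_iff_mul_eq, ← mul_assoc, ← S_mul_R]; group
  have h2 : (fun i => e i + f i - f (σ⁻¹ i)) = f + e - fun i => f (σ⁻¹ i) := by
    ext i
    simp only [Pi.add_apply, Pi.sub_apply]
    ring
  rw [h2, R_sub, R_add]
  calc d.R f * (d.R e * d.S σ) * (d.R f)⁻¹ = d.R f * d.R e * (d.S σ * (d.R f)⁻¹) := by group
    _ = _ := by rw [h1]; group

theorem cube (e : Fin 6 → ZMod 3) (σ : Perm (Fin 6)) (hσ : σ ^ 3 = 1) (h : (d.R e * d.S σ) ^ 3 = 1) (i j : Fin 6) :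
    e i + e (σ⁻¹ i) + e (σ⁻¹ (σ⁻¹ i)) = e j + e (σ⁻¹ j) + e (σ⁻¹ (σ⁻¹ j)) := by
  have h1 : (d.R e * d.S σ) ^ 3 = d.R (fun i => e i + e (σ⁻¹ i) + e (σ⁻¹ (σ⁻¹ i))) * d.S (σ * σ * σ) := by
    rw [pow_succ, pow_two, mul_form, mul_form]
    rfl
  have h2 : σ * σ * σ = 1 := by rw [← hσ, pow_succ, pow_two]
  rw [h2, map_one, mul_one, h] at h1
  exact d.R_eq_one h1.symm i j

theorem R_affine (e : Fin 6 → ZMod 3) (c : ZMod 3) : d.R (fun i => e i + c) = d.R e := by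
  have h1 : (fun i => e i + c) = e + fun _ => c := rfl
  rw [h1, R_add, R_const _ d.hone, mul_one]

include hS in
/-- the diagonal elements -/
theorem diag {e : Fin 6 → ZMod 3} (he : d.R e ≠ 1) : ∃ k : Fin 6, Cj N (d.R e) (d.R (rep k)) := by
  have h1 : ¬ ∀ i j, e i = e j := by
    intro h
    apply he
    have h2 : e = fun _ => e 0 := by ext i; rw [h i 0]
    rw [h2, R_const _ d.hone]
  obtain ⟨s, hs, c, k, σ, h⟩ := exists_rep e h1
  refine ⟨k, ?_⟩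
  have h2 : rep k = fun i => s * e (σ i) + c := by ext i; rw [h i]
  rw [h2, R_affine]
  have h3 : Cj N (d.R e) (d.R fun i => e (σ i)) := by
    refine Cj.of (hS σ⁻¹) ?_
    rw [R_conj, inv_inv]
  refine h3.trans ?_
  have h4 : ∀ s : ZMod 3, s * s = 1 → s = 1 ∨ s = -1 := by decide
  rcases h4 s hs with rfl | rfl
  · simp only [one_mul]
    exact Cj.refl _
  · have h5 : (fun i => -1 * e (σ i)) = - fun i => e (σ i) := by
      ext i; simp
    rw [h5, R_neg]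
    exact Cj.inv _

include hκ in
/-- `c1` times a diagonal element on the last three coordinates -/
theorem cj_c1 (x y z : ZMod 3) : Cj N (d.R ![0, 0, 0, x, y, z] * d.S (q 1 0)) (d.R ![1, 2, 0, x, y, z]) := by
  refine Cj.of hκ ?_
  have h1 : d.R ![0, 0, 0, x, y, z] = d.r 3 ^ x.val * (d.r 4 ^ y.val * d.r 5 ^ z.val) := by
    rw [R_expand]
    show d.r 0 ^ 0 * (d.r 1 ^ 0 * (d.r 2 ^ 0 * (d.r 3 ^ x.val * (d.r 4 ^ y.val * d.r 5 ^ z.val)))) = _
    simp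
  have h2 : Commute d.κ (d.R ![0, 0, 0, x, y, z]) := by
    rw [h1]
    exact (d.k3.pow_right _).mul_right ((d.k4.pow_right _).mul_right (d.k5.pow_right _))
  have h3 : d.S (q 1 0) = d.S c1 := by
    have : q 1 0 = c1 := by decide
    rw [this]
  have h4 : d.R ![1, 2, 0, x, y, z] = d.R ![0, 0, 0, x, y, z] * (d.r 0 * (d.r 1)⁻¹) := by
    have h5 : (![1, 2, 0, x, y, z] : Fin 6 → ZMod 3) = ![0, 0, 0, x, y, z] + (Pi.single (0 : Fin 6) (1 : ZMod 3) -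
        Pi.single (1 : Fin 6) (1 : ZMod 3)) := by
      ext i
      fin_cases i <;> simp
      decide
    rw [h5, R_add, R_sub, R_single_one, R_single_one]
  rw [h4, ← d.k1, h3]
  calc d.κ * (d.R ![0, 0, 0, x, y, z] * d.S c1) * d.κ⁻¹ = (d.κ * d.R ![0, 0, 0, x, y, z]) * d.S c1 * d.κ⁻¹ := by group
    _ = _ := by rw [h2.eq]; group

theorem c1_pow : (q 1 0) ^ 3 = 1 := by decide

theorem c12_pow : (q 1 1) ^ 3 = 1 := by decide

/-- the conjugating permutations -/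
def pil : List (Perm (Fin 6)) := [1, swap 0 1, swap 0 3 * swap 1 4 * swap 2 5, swap 0 1 * (swap 0 3 * swap 1 4 * swap 2 5),
  swap 3 4, swap 0 1 * swap 3 4]

theorem pil_table : ∀ a b : ZMod 3, ¬ (a = 0 ∧ b = 0) → ∃ π ∈ pil, π * q a b * π⁻¹ = q 1 0 ∨ π * q a b * π⁻¹ = q 1 1 := by
  decide

include hR hκ in
theorem case10 {e : Fin 6 → ZMod 3} (h3 : (d.R e * d.S (q 1 0)) ^ 3 = 1) : ∃ e', Cj N (d.R e * d.S (q 1 0)) (d.R e') := by
  have h := d.cube e _ c1_pow h3 0 3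
  have e1 : (q 1 0)⁻¹ 0 = 2 := by decide
  have e2 : (q 1 0)⁻¹ 2 = 1 := by decide
  have e3 : (q 1 0)⁻¹ 3 = 3 := by decide
  have e4 : (q 1 0)⁻¹ 1 = 0 := by decide
  have e5 : (q 1 0)⁻¹ 4 = 4 := by decide
  have e6 : (q 1 0)⁻¹ 5 = 5 := by decide
  rw [e1, e2, e3, e3] at h
  have h30 : e 3 + e 3 + e 3 = 0 := by
    have : ∀ x : ZMod 3, x + x + x = 0 := by decide
    exact this _
  rw [h30] at h
  have h4 : Cj N (d.R e * d.S (q 1 0)) (d.R ![0, 0, 0, e 3, e 4, e 5] * d.S (q 1 0)) := by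
    refine Cj.of (hR ![0, - e 1, e 0, 0, 0, 0]) ?_
    rw [conjR]
    congr 2
    ext i
    fin_cases i
    · show e 0 + 0 - (![0, - e 1, e 0, 0, 0, 0] : Fin 6 → ZMod 3) ((q 1 0)⁻¹ 0) = 0
      rw [e1]
      show e 0 + 0 - e 0 = 0
      ring
    · show e 1 + - e 1 - (![0, - e 1, e 0, 0, 0, 0] : Fin 6 → ZMod 3) ((q 1 0)⁻¹ 1) = 0
      rw [e4]
      show e 1 + - e 1 - 0 = 0
      ring
    · show e 2 + e 0 - (![0, - e 1, e 0, 0, 0, 0] : Fin 6 → ZMod 3) ((q 1 0)⁻¹ 2) = 0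
      rw [e2]
      show e 2 + e 0 - - e 1 = 0
      linear_combination h
    · show e 3 + 0 - (![0, - e 1, e 0, 0, 0, 0] : Fin 6 → ZMod 3) ((q 1 0)⁻¹ 3) = e 3
      rw [e3]
      show e 3 + 0 - 0 = e 3
      ring
    · show e 4 + 0 - (![0, - e 1, e 0, 0, 0, 0] : Fin 6 → ZMod 3) ((q 1 0)⁻¹ 4) = e 4
      rw [e5]
      show e 4 + 0 - 0 = e 4
      ring
    · show e 5 + 0 - (![0, - e 1, e 0, 0, 0, 0] : Fin 6 → ZMod 3) ((q 1 0)⁻¹ 5) = e 5
      rw [e6]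
      show e 5 + 0 - 0 = e 5
      ring
  exact ⟨_, h4.trans (d.cj_c1 N hκ _ _ _)⟩

include hR in
theorem norm11 (e : Fin 6 → ZMod 3) (h : e 0 + e 1 + e 2 = e 3 + e 4 + e 5) :
    Cj N (d.R e * d.S (q 1 1)) (d.R ![e 0 + e 1 + e 2, 0, 0, e 0 + e 1 + e 2, 0, 0] * d.S (q 1 1)) := by
  have e1 : (q 1 1)⁻¹ 0 = 2 := by decide
  have e2 : (q 1 1)⁻¹ 2 = 1 := by decide
  have e4 : (q 1 1)⁻¹ 1 = 0 := by decide
  have e3 : (q 1 1)⁻¹ 3 = 5 := by decide
  have e5 : (q 1 1)⁻¹ 4 = 3 := by decide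
  have e6 : (q 1 1)⁻¹ 5 = 4 := by decide
  refine Cj.of (hR ![0, - e 1, - e 1 - e 2, 0, - e 4, - e 4 - e 5]) ?_
  rw [conjR]
  congr 2
  ext i
  fin_cases i
  · show e 0 + 0 - (![0, - e 1, - e 1 - e 2, 0, - e 4, - e 4 - e 5] : Fin 6 → ZMod 3) ((q 1 1)⁻¹ 0) = e 0 + e 1 + e 2
    rw [e1]
    show e 0 + 0 - (- e 1 - e 2) = e 0 + e 1 + e 2
    ring
  · show e 1 + - e 1 - (![0, - e 1, - e 1 - e 2, 0, - e 4, - e 4 - e 5] : Fin 6 → ZMod 3) ((q 1 1)⁻¹ 1) = 0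
    rw [e4]
    show e 1 + - e 1 - 0 = 0
    ring
  · show e 2 + (- e 1 - e 2) - (![0, - e 1, - e 1 - e 2, 0, - e 4, - e 4 - e 5] : Fin 6 → ZMod 3) ((q 1 1)⁻¹ 2) = 0
    rw [e2]
    show e 2 + (- e 1 - e 2) - - e 1 = 0
    ring
  · show e 3 + 0 - (![0, - e 1, - e 1 - e 2, 0, - e 4, - e 4 - e 5] : Fin 6 → ZMod 3) ((q 1 1)⁻¹ 3) = e 0 + e 1 + e 2
    rw [e3]
    show e 3 + 0 - (- e 4 - e 5) = e 0 + e 1 + e 2
    linear_combination -h
  · show e 4 + - e 4 - (![0, - e 1, - e 1 - e 2, 0, - e 4, - e 4 - e 5] : Fin 6 → ZMod 3) ((q 1 1)⁻¹ 4) = 0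
    rw [e5]
    show e 4 + - e 4 - 0 = 0
    ring
  · show e 5 + (- e 4 - e 5) - (![0, - e 1, - e 1 - e 2, 0, - e 4, - e 4 - e 5] : Fin 6 → ZMod 3) ((q 1 1)⁻¹ 5) = 0
    rw [e6]
    show e 5 + (- e 4 - e 5) - - e 4 = 0
    ring

include hR hS hκ in
theorem case11 {e : Fin 6 → ZMod 3} (h3 : (d.R e * d.S (q 1 1)) ^ 3 = 1) :
    (∃ e', Cj N (d.R e * d.S (q 1 1)) (d.R e')) ∨ Cj N (d.R e * d.S (q 1 1)) d.x5 := by
  have h := d.cube e _ c12_pow h3 0 3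
  have e1 : (q 1 1)⁻¹ 0 = 2 := by decide
  have e2 : (q 1 1)⁻¹ 2 = 1 := by decide
  have e3 : (q 1 1)⁻¹ 3 = 5 := by decide
  have e6 : (q 1 1)⁻¹ 5 = 4 := by decide
  rw [e1, e2, e3, e6] at h
  have h' : e 0 + e 1 + e 2 = e 3 + e 4 + e 5 := by linear_combination h
  have h1 := d.norm11 N hR e h'
  have hcase : ∀ s : ZMod 3, s = 0 ∨ s = 1 ∨ s = 2 := by decide
  rcases hcase (e 0 + e 1 + e 2) with hs | hs | hs
  · left
    rw [hs] at h1
    have h2 : Cj N (d.R ![0, 0, 0, 0, 0, 0] * d.S (q 1 1)) (d.R ![1, 2, 0, 0, 0, 0] * d.S (q 0 1)) := by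
      refine Cj.of hκ ?_
      have a1 : (![0, 0, 0, 0, 0, 0] : Fin 6 → ZMod 3) = 0 := by decide
      have a2 : d.S (q 1 1) = d.S c1 * d.S c2 := by
        rw [← map_mul]
        have : q 1 1 = c1 * c2 := by decide
        rw [this]
      have a3 : d.S (q 0 1) = d.S c2 := by
        have : q 0 1 = c2 := by decide
        rw [this]
      have a4 : d.R ![1, 2, 0, 0, 0, 0] = d.r 0 * (d.r 1)⁻¹ := by
        have h5 : (![1, 2, 0, 0, 0, 0] : Fin 6 → ZMod 3) = (Pi.single (0 : Fin 6) (1 : ZMod 3) -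
            Pi.single (1 : Fin 6) (1 : ZMod 3)) := by
          decide
        rw [h5, R_sub, R_single_one, R_single_one]
      rw [a1, R_zero, a2, a3, a4, ← d.k1]
      calc d.κ * (1 * (d.S c1 * d.S c2)) * d.κ⁻¹ = d.κ * d.S c1 * (d.S c2 * d.κ⁻¹) := by group
        _ = _ := by rw [d.kS.symm.inv_right.eq]; group
    have h4 : Cj N (d.R ![1, 2, 0, 0, 0, 0] * d.S (q 0 1)) (d.R ![0, 0, 0, 1, 2, 0] * d.S (q 1 0)) := by
      refine Cj.of (hS (swap 0 3 * swap 1 4 * swap 2 5)) ?_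
      rw [conjS]
      have b1 : (fun i => (![1, 2, 0, 0, 0, 0] : Fin 6 → ZMod 3) ((swap 0 3 * swap 1 4 * swap 2 5 : Perm (Fin 6))⁻¹ i)) =
          ![0, 0, 0, 1, 2, 0] := by decide
      have b2 : (swap 0 3 * swap 1 4 * swap 2 5 : Perm (Fin 6)) * q 0 1 * (swap 0 3 * swap 1 4 * swap 2 5)⁻¹ = q 1 0 := by
        decide
      rw [b1, b2]
    exact ⟨_, ((h1.trans h2).trans h4).trans (d.cj_c1 N hκ _ _ _)⟩
  · right
    rw [hs] at h1
    exact h1
  · right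
    rw [hs] at h1
    refine h1.trans ?_
    have h2 : Cj N (d.R ![2, 0, 0, 2, 0, 0] * d.S (q 1 1)) (d.R ![0, 0, 1, 0, 0, 1] * d.S (q 1 1)) := by
      have h4 : Cj N (d.R ![2, 0, 0, 2, 0, 0] * d.S (q 1 1)) (d.R ![0, 0, 1, 0, 0, 1] * d.S (q 2 2)) := by
        have h5 : (d.R ![2, 0, 0, 2, 0, 0] * d.S (q 1 1))⁻¹ = d.R ![0, 0, 1, 0, 0, 1] * d.S (q 2 2) := by
          rw [inv_form]
          have b1 : (fun i => - (![2, 0, 0, 2, 0, 0] : Fin 6 → ZMod 3) (q 1 1 i)) = ![0, 0, 1, 0, 0, 1] := by decide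
          have b2 : (q 1 1)⁻¹ = q 2 2 := by decide
          rw [b1, b2]
        rw [← h5]
        exact Cj.inv _
      refine h4.trans (Cj.of (hS (swap 0 1 * swap 3 4)) ?_)
      rw [conjS]
      have b1 : (fun i => (![0, 0, 1, 0, 0, 1] : Fin 6 → ZMod 3) ((swap 0 1 * swap 3 4 : Perm (Fin 6))⁻¹ i)) =
          ![0, 0, 1, 0, 0, 1] := by decide
      have b2 : (swap 0 1 * swap 3 4 : Perm (Fin 6)) * q 2 2 * (swap 0 1 * swap 3 4)⁻¹ = q 1 1 := by
        decide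
      rw [b1, b2]
    refine h2.trans ?_
    have h4 := d.norm11 N hR ![0, 0, 1, 0, 0, 1] (by decide)
    exact h4

include hR hS hκ in
/-- **The elements of order 3 of `P` up to conjugation in `N` and inversion.** -/
theorem cases_P {y : G} (hy : y ∈ d.P) (h3 : y ^ 3 = 1) (hne : y ≠ 1) :
    (∃ k : Fin 6, Cj N y (d.R (rep k))) ∨ Cj N y d.x5 := by
  have key : ∀ z : G, Cj N y z → z ≠ 1 := by
    rintro z ⟨g, -, h | h⟩ rfl
    · apply hne
      have : y = g⁻¹ * (g * y * g⁻¹) * g := by group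
      rw [this, h]; group
    · apply hne
      have : y = g⁻¹ * (g * y * g⁻¹) * g := by group
      rw [this, h]; group
  have fin : ∀ e' : Fin 6 → ZMod 3, Cj N y (d.R e') → ∃ k : Fin 6, Cj N y (d.R (rep k)) := by
    intro e' h
    obtain ⟨k, hk⟩ := d.diag N hS (key _ h)
    exact ⟨k, h.trans hk⟩
  obtain ⟨e, a, b, rfl⟩ := hy
  by_cases hab : a = 0 ∧ b = 0
  · obtain ⟨rfl, rfl⟩ := hab
    left
    apply fin e
    rw [q_zero, map_one, mul_one]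
    exact Cj.refl _
  obtain ⟨π, -, hπ⟩ := pil_table a b hab
  have h4 : d.S π * (d.R e * d.S (q a b)) * (d.S π)⁻¹ = d.R (fun i => e (π⁻¹ i)) * d.S (π * q a b * π⁻¹) :=
    d.conjS _ _ _
  have h5 : (d.S π * (d.R e * d.S (q a b)) * (d.S π)⁻¹) ^ 3 = 1 := by rw [conj_pow, h3]; group
  have h6 : Cj N (d.R e * d.S (q a b)) (d.R (fun i => e (π⁻¹ i)) * d.S (π * q a b * π⁻¹)) := Cj.of (hS π) h4
  rw [h4] at h5
  rcases hπ with hπ | hπ
  · rw [hπ] at h5 h6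
    obtain ⟨e', he'⟩ := d.case10 N hR hκ h5
    exact Or.inl (fin e' (h6.trans he'))
  · rw [hπ] at h5 h6
    rcases d.case11 N hR hS hκ h5 with ⟨e', he'⟩ | h7
    · exact Or.inl (fin e' (h6.trans he'))
    · exact Or.inr (h6.trans h7)

end Full

end Cfsg.Agent.H842.Frame
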