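import Mathlib.GroupTheory.Perm.Support
import Mathlib.GroupTheory.Perm.Closure
import Mathlib.Tactic

/-!
# Endomorphisms of symmetric groups taking transpositions to transpositions (helper842)

* `exists_conj` : an injective endomorphism of `Perm (Fin n)` taking swaps to swaps is inner.
* `ncard_le` : a set of pairwise commuting swaps of `Fin n` has at most `n / 2` members.
-/

set_option autoImplicit false

namespace Cfsg.Agent.H842.SwapAuto

open Equiv Equiv.Perm

variable {n : ℕ}

/-- two swaps commute iff they are equal or disjoint -/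
theorem commute_swap_iff {α : Type*} [DecidableEq α] {a b c d : α} (hab : a ≠ b) (hcd : c ≠ d) :
    swap a b * swap c d = swap c d * swap a b ↔
      (a = c ∧ b = d) ∨ (a = d ∧ b = c) ∨ (a ≠ c ∧ a ≠ d ∧ b ≠ c ∧ b ≠ d) := by
  constructor
  · intro h
    have h1 : swap a b * swap c d * (swap a b)⁻¹ = swap c d := by rw [h]; group
    rw [← Equiv.swap_apply_apply] at h1
    have h2 : ∀ x, swap (swap a b c) (swap a b d) x = swap c d x := fun x => by rw [h1]
    by_cases hac : a = c
    · subst hac
      left
      refine ⟨rfl, ?_⟩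
      by_contra hbd
      rw [swap_apply_left, swap_apply_of_ne_of_ne hcd.symm (Ne.symm hbd)] at h1
      have h3 := congrArg (fun σ : Perm α => σ d) h1
      simp only [swap_apply_right] at h3
      exact hab h3.symm
    · by_cases had : a = d
      · subst had
        right; left
        refine ⟨rfl, ?_⟩
        by_contra hbc
        rw [swap_apply_left, swap_apply_of_ne_of_ne (Ne.symm hac) (Ne.symm hbc)] at h1
        have h3 := congrArg (fun σ : Perm α => σ c) h1
        simp only [swap_apply_left] at h3
        exact hab h3.symm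
      · right; right
        refine ⟨hac, had, ?_, ?_⟩
        · rintro rfl
          rw [swap_apply_right, swap_apply_of_ne_of_ne (Ne.symm had) (Ne.symm hcd)] at h1
          have h3 := congrArg (fun σ : Perm α => σ d) h1
          simp only [swap_apply_right] at h3
          exact hab h3
        · rintro rfl
          rw [swap_apply_right, swap_apply_of_ne_of_ne (Ne.symm hac) hcd] at h1
          have h3 := congrArg (fun σ : Perm α => σ c) h1
          simp only [swap_apply_left] at h3
          exact hab h3
  · rintro (⟨rfl, rfl⟩ | ⟨rfl, rfl⟩ | ⟨h1, h2, h3, h4⟩)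
    · rfl
    · rw [swap_comm]
    · have h5 : swap a b * swap c d * (swap a b)⁻¹ = swap c d := by
        rw [← Equiv.swap_apply_apply, swap_apply_of_ne_of_ne (Ne.symm h1) (Ne.symm h3),
          swap_apply_of_ne_of_ne (Ne.symm h2) (Ne.symm h4)]
      calc swap a b * swap c d = swap a b * swap c d * (swap a b)⁻¹ * swap a b := by group
        _ = _ := by rw [h5]

/-- the swaps `(0 i)` generate -/
theorem hom_ext_star {m : ℕ} {G : Type*} [Group G] {f g : Perm (Fin (m + 1)) →* G}
    (h : ∀ i : Fin (m + 1), i ≠ 0 → f (swap 0 i) = g (swap 0 i)) : f = g := by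
  have key : ∀ i j : Fin (m + 1), i ≠ j → f (swap i j) = g (swap i j) := by
    intro i j hij
    by_cases hi : i = 0
    · subst hi; exact h j hij.symm
    · by_cases hj : j = 0
      · subst hj; rw [swap_comm]; exact h i hi
      · have h1 : swap i j = swap 0 i * swap 0 j * (swap 0 i)⁻¹ := by
          rw [← Equiv.swap_apply_apply, swap_apply_left, swap_apply_of_ne_of_ne hj hij.symm]
        rw [h1, map_mul, map_mul, map_mul, map_mul, map_inv, map_inv, h i hi, h j hj]
  ext σ
  induction σ using Equiv.Perm.swap_induction_on with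
  | one => rw [map_one, map_one]
  | swap_mul σ x y hxy ih => rw [map_mul, map_mul, key x y hxy, ih]

/-- **An injective endomorphism taking swaps to swaps is inner.** -/
theorem exists_conj {m : ℕ} (α : Perm (Fin (m + 1)) →* Perm (Fin (m + 1))) (hinj : Function.Injective α)
    (h : ∀ i j : Fin (m + 1), i ≠ j → ∃ a b, a ≠ b ∧ α (swap i j) = swap a b) :
    ∃ τ : Perm (Fin (m + 1)), ∀ σ, α σ = τ * σ * τ⁻¹ := by
  classical
  -- the images of the star
  have hc : ∀ i j : Fin (m + 1), i ≠ 0 → j ≠ 0 → i ≠ j →
      ¬ (α (swap 0 i) * α (swap 0 j) = α (swap 0 j) * α (swap 0 i)) := by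
    intro i j hi hj hij h1
    rw [← map_mul, ← map_mul] at h1
    rcases (commute_swap_iff hi.symm hj.symm).1 (hinj h1) with h2 | h2 | h2
    · exact hij h2.2
    · exact hj h2.1.symm
    · exact h2.1 rfl
  by_cases hm : m = 0
  · subst hm
    refine ⟨1, fun σ => ?_⟩
    have h1 : ∀ σ τ : Perm (Fin 1), σ = τ := by decide
    exact h1 _ _
  -- a common letter
  have hcom : ∃ c : Fin (m + 1), ∀ i : Fin (m + 1), i ≠ 0 → ∃ a, a ≠ c ∧ α (swap 0 i) = swap c a := by
    have h01 : (⟨1, by omega⟩ : Fin (m + 1)) ≠ 0 := by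
      intro h1
      have h2 := congrArg Fin.val h1
      simp at h2
    by_cases hm1 : m = 1
    · obtain ⟨a, b, hab, h1⟩ := h 0 ⟨1, by omega⟩ h01.symm
      refine ⟨a, fun i hi => ⟨b, hab.symm, ?_⟩⟩
      have h2 : i = ⟨1, by omega⟩ := by
        apply Fin.ext
        have h3 := i.2
        have h4 : (i : ℕ) ≠ 0 := fun h5 => hi (Fin.ext h5)
        show (i : ℕ) = 1
        omega
      rw [h2]; exact h1
    · obtain ⟨u1, u2, h01, h02, h12⟩ : ∃ u1 u2 : Fin (m + 1), u1 ≠ 0 ∧ u2 ≠ 0 ∧ u1 ≠ u2 := by
        refine ⟨⟨1, by omega⟩, ⟨2, by omega⟩, h01, ?_, ?_⟩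
        · intro h1
          have h2 := congrArg Fin.val h1
          simp at h2
        · intro h1
          have h2 := congrArg Fin.val h1
          simp at h2
      obtain ⟨a1, b1, hab1, e1⟩ := h 0 u1 h01.symm
      obtain ⟨a2, b2, hab2, e2⟩ := h 0 u2 h02.symm
      -- write `α (0 1) = (c x)`, `α (0 2) = (c y)`, `x ≠ y`
      obtain ⟨c, x, y, hcx, hcy, hxy, f1, f2⟩ : ∃ c x y, x ≠ c ∧ y ≠ c ∧ x ≠ y ∧
          α (swap 0 u1) = swap c x ∧ α (swap 0 u2) = swap c y := by
        have h3 := hc _ _ h01 h02 h12
        rw [e1, e2, commute_swap_iff hab1 hab2] at h3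
        push Not at h3
        obtain ⟨h4, h5, h6⟩ := h3
        by_cases p1 : a1 = a2
        · subst p1
          exact ⟨a1, b1, b2, hab1.symm, hab2.symm, h4 rfl, e1, e2⟩
        · by_cases p2 : a1 = b2
          · subst p2
            exact ⟨a1, b1, a2, hab1.symm, hab2, h5 rfl, e1, e2.trans (swap_comm _ _)⟩
          · by_cases p3 : b1 = a2
            · subst p3
              exact ⟨b1, a1, b2, hab1, hab2.symm, p2, e1.trans (swap_comm _ _), e2⟩
            · have p4 := h6 p1 p2 p3
              subst p4
              exact ⟨b1, a1, a2, hab1, hab2, p1, e1.trans (swap_comm _ _), e2.trans (swap_comm _ _)⟩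
      refine ⟨c, fun i hi => ?_⟩
      by_cases hi1 : i = u1
      · subst hi1; exact ⟨x, hcx, f1⟩
      by_cases hi2 : i = u2
      · subst hi2; exact ⟨y, hcy, f2⟩
      obtain ⟨a, b, hab, e⟩ := h 0 i hi.symm
      have g1 := hc _ _ hi h01 hi1
      have g2 := hc _ _ hi h02 hi2
      rw [e, f1, commute_swap_iff hab hcx.symm] at g1
      rw [e, f2, commute_swap_iff hab hcy.symm] at g2
      by_cases p1 : a = c
      · subst p1; exact ⟨b, hab.symm, e⟩
      by_cases p2 : b = c
      · subst p2; exact ⟨a, hab, e.trans (swap_comm _ _)⟩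
      -- otherwise `{a, b} = {x, y}`
      exfalso
      have g3 : swap a b = swap x y := by
        push Not at g1 g2
        have q1 : a = x ∨ b = x := by
          by_contra hcon
          push Not at hcon
          exact hcon.2 (g1.2.2 p1 hcon.1 p2)
        have q2 : a = y ∨ b = y := by
          by_contra hcon
          push Not at hcon
          exact hcon.2 (g2.2.2 p1 hcon.1 p2)
        rcases q1 with rfl | rfl
        · rcases q2 with rfl | rfl
          · exact absurd rfl hxy
          · rfl
        · rcases q2 with rfl | rfl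
          · rw [swap_comm]
          · exact absurd rfl hxy
      have g4 : swap x y = swap c x * swap c y * (swap c x)⁻¹ := by
        rw [← Equiv.swap_apply_apply, swap_apply_left, swap_apply_of_ne_of_ne hcy hxy.symm]
      have g5 : α (swap 0 i) = α (swap u1 u2) := by
        have g6 : swap u1 u2 = swap 0 u1 * swap 0 u2 * (swap 0 u1)⁻¹ := by
          rw [← Equiv.swap_apply_apply, swap_apply_left, swap_apply_of_ne_of_ne h02 h12.symm]
        rw [g6, map_mul, map_mul, map_inv, f1, f2, ← g4, ← g3, e]
      have g7 := congrArg (fun σ : Perm (Fin (m + 1)) => σ 0) (hinj g5)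
      simp only [swap_apply_left] at g7
      rw [swap_apply_of_ne_of_ne h01.symm h02.symm] at g7
      exact hi g7
  obtain ⟨c, hcc⟩ := hcom
  -- the permutation
  let t : Fin (m + 1) → Fin (m + 1) := fun i => if h : i = 0 then c else (hcc i h).choose
  have t0 : t 0 = c := dif_pos rfl
  have ti : ∀ i, i ≠ 0 → t i ≠ c ∧ α (swap 0 i) = swap c (t i) := by
    intro i hi
    have h1 : t i = (hcc i hi).choose := dif_neg hi
    rw [h1]
    exact (hcc i hi).choose_spec
  have tinj : Function.Injective t := by
    intro i j hij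
    by_cases hi : i = 0
    · by_cases hj : j = 0
      · rw [hi, hj]
      · exfalso
        rw [hi, t0] at hij
        exact (ti j hj).1 hij.symm
    · by_cases hj : j = 0
      · exfalso
        rw [hj, t0] at hij
        exact (ti i hi).1 hij
      · have h1 : α (swap 0 i) = α (swap 0 j) := by rw [(ti i hi).2, (ti j hj).2, hij]
        have h2 := congrArg (fun σ : Perm (Fin (m + 1)) => σ 0) (hinj h1)
        simpa only [swap_apply_left] using h2
  let τ : Perm (Fin (m + 1)) := Equiv.ofBijective t (Finite.injective_iff_bijective.1 tinj)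
  refine ⟨τ, ?_⟩
  have h1 : α = (MulAut.conj τ).toMonoidHom := by
    apply hom_ext_star
    intro i hi
    rw [(ti i hi).2]
    show _ = τ * swap 0 i * τ⁻¹
    rw [← Equiv.swap_apply_apply]
    show swap c (t i) = swap (t 0) (t i)
    rw [t0]
  intro σ
  rw [h1]
  rfl

/-- pairwise commuting swaps -/
theorem ncard_le {E : Set (Perm (Fin n))} (hE : ∀ e ∈ E, ∃ a b, a ≠ b ∧ e = swap a b)
    (hc : ∀ e ∈ E, ∀ f ∈ E, Commute e f) : 2 * E.ncard ≤ n := by
  classical
  let S : Finset (Perm (Fin n)) := E.toFinite.toFinset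
  have hS : ∀ e, e ∈ S ↔ e ∈ E := fun e => E.toFinite.mem_toFinset
  have h1 : (S.biUnion fun e => e.support).card = ∑ e ∈ S, e.support.card := by
    apply Finset.card_biUnion
    intro e he f hf hne
    obtain ⟨a, b, hab, rfl⟩ := hE e ((hS e).1 he)
    obtain ⟨c, d, hcd, rfl⟩ := hE f ((hS f).1 hf)
    have h2 := (commute_swap_iff hab hcd).1 (hc _ ((hS _).1 he) _ ((hS _).1 hf)).eq
    rcases h2 with ⟨rfl, rfl⟩ | ⟨rfl, rfl⟩ | ⟨p1, p2, p3, p4⟩
    · exact absurd rfl hne
    · exact absurd (swap_comm _ _) hne
    · show Disjoint (swap a b).support (swap c d).support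
      rw [support_swap hab, support_swap hcd]
      simp [Finset.disjoint_left, p1, p2, p3, p4]
  have h2 : ∑ e ∈ S, e.support.card = ∑ e ∈ S, 2 := by
    apply Finset.sum_congr rfl
    intro e he
    obtain ⟨a, b, hab, rfl⟩ := hE e ((hS e).1 he)
    exact card_support_swap hab
  have h3 : (S.biUnion fun e => e.support).card ≤ n := by
    have h4 := Finset.card_le_univ (S.biUnion fun e => e.support)
    rwa [Fintype.card_fin] at h4
  rw [h1, h2, Finset.sum_const, smul_eq_mul] at h3
  have h5 : S.card = E.ncard := by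
    rw [Set.ncard_eq_toFinset_card E E.toFinite]
  omega

end Cfsg.Agent.H842.SwapAuto
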