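import Cfsg.Agent.H842.ThreeCl
import Cfsg.Agent.H842.SevenMain
import Cfsg.Agent.H831.Types
import Cfsg.Agent.H842.WFive
import Cfsg.Agent.H834.W3
import Cfsg.Agent.H838.W24Main
import Cfsg.Agent.H840.Width
import Cfsg.Agent.H840.NormX
import Cfsg.Agent.H841.Transport

/-!
# The subgroups of order 3 of a group isomorphic to `Fi24` (helper842)

* `fgroup_L`, `isT8_L` : the class `L` of `Fi24` inherits the hypotheses from `D` along an isomorphism.
* `main` : the five classes of subgroups of order 3.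
-/

set_option autoImplicit false
set_option maxRecDepth 100000

namespace Cfsg.Agent.H842.ThreeMain

open Cfsg Cfsg.Agent Subgroup
open Cfsg.Agent.R08.FiTwentyFour (L gen_mem_L)
open Cfsg.Agent.Fischer.Fi24RepDef Cfsg.Agent.Fischer.Fi24Rep
open Cfsg.Agent.H842.FrameK (x5w)
open Cfsg.Agent.Fischer480.Defs (FGroup IsT8 Com)
open Cfsg.Spor (Fi24)

variable {G : Type*} [Group G]

theorem fgroup_L {D : Set G} (e : Fi24 ≃* G) (F : FGroup D) : FGroup L where
  cls := Cfsg.Agent.R08.FiTwentyFour.isThreeTranspositionClass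
  sol := by
    intro N hN hs
    have h1 : N.map e.toMonoidHom = ⊥ := by
      apply F.sol _ (hN.map _ e.surjective)
      exact Group.isSolvable_of_surjective (f := (N.equivMapOfInjective e.toMonoidHom e.injective).toMonoidHom)
        (N.equivMapOfInjective e.toMonoidHom e.injective).surjective
    rwa [Subgroup.map_eq_bot_iff_of_injective _ e.injective] at h1
  perf := by
    have h1 : (commutator Fi24).map e.toMonoidHom = commutator G := by
      rw [_root_.commutator_def, _root_.commutator_def, Subgroup.map_commutator,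
        Subgroup.map_top_of_surjective _ e.surjective]
    have h2 := F.perf
    rw [← h1, ← Subgroup.map_commutator] at h2
    exact Subgroup.map_injective e.injective h2

theorem isT8_L {D : Set G} (e : Fi24 ≃* G) (he : e '' L = D) (h : IsT8 D) : IsT8 L := by
  refine Cfsg.Agent.Fischer480.Transport.isT8 ⟨e, ?_, fun a _ b _ => ?_⟩ h
  · rw [← he]
    exact e.injective.injOn.bijOn_image
  · constructor
    · intro h
      exact h.map e
    · intro h
      have h' : e a * e b = e b * e a := h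
      rw [← map_mul, ← map_mul] at h'
      exact e.injective h'

/-! ### Transport of the result -/

theorem width_conj {D : Set G} (hD : ∀ g : G, ∀ d ∈ D, g * d * g⁻¹ ∈ D) {X Y : Subgroup G}
    (h : ∃ g : G, X.map (MulAut.conj g).toMonoidHom = Y) :
    Cfsg.commutingWidth (D ∩ (Subgroup.centralizer ((X : Subgroup G) : Set G) : Set G)) =
      Cfsg.commutingWidth (D ∩ (Subgroup.centralizer ((Y : Subgroup G) : Set G) : Set G)) := by
  obtain ⟨g, rfl⟩ := h
  have h1 : (MulAut.conj g : G ≃* G) '' D = D := by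
    ext z
    constructor
    · rintro ⟨y, hy, rfl⟩
      exact hD g y hy
    · intro hz
      refine ⟨g⁻¹ * z * g⁻¹⁻¹, hD _ _ hz, ?_⟩
      show g * (g⁻¹ * z * g⁻¹⁻¹) * g⁻¹ = z
      group
  have h2 := H841.Transport.image_inter (MulAut.conj g : G ≃* G) D X
  rw [h1] at h2
  rw [← h2, H841.Transport.commutingWidth_image]

theorem transfer {D : Set G} (e : Fi24 ≃* G) (he : e '' L = D) (x : Fin 5 → Fi24)
    (hx : ∀ i, x i ^ 3 = 1) (hne : ∀ i, x i ≠ 1)
    (hcl : ∀ y : Fi24, y ^ 3 = 1 → y ≠ 1 → ∃ (i : Fin 5) (g : Fi24), g * y * g⁻¹ = x i ∨ g * y * g⁻¹ = (x i)⁻¹)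
    (w : Fin 5 → ℕ) (hw : Function.Injective w)
    (hwd : ∀ i, Cfsg.commutingWidth (L ∩ (Subgroup.centralizer ((Subgroup.zpowers (x i) : Subgroup Fi24) : Set Fi24) :
      Set Fi24)) = w i) :
    ∃ Y : Fin 5 → Subgroup G, (∀ i, Nat.card (Y i) = 3) ∧
      (∀ i j, (∃ g : G, (Y i).map (MulAut.conj g).toMonoidHom = Y j) → i = j) ∧
      (∀ X : Subgroup G, Nat.card X = 3 → ∃ i, ∃ g : G, X.map (MulAut.conj g).toMonoidHom = Y i) ∧
      (∀ i, Cfsg.commutingWidth (D ∩ (Subgroup.centralizer ((Y i : Subgroup G) : Set G) : Set G)) = w i) := by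
  have : Fact (Nat.Prime 3) := ⟨by norm_num⟩
  have hwD : ∀ i, Cfsg.commutingWidth (D ∩ (Subgroup.centralizer (((Subgroup.zpowers (x i)).map e.toMonoidHom :
      Subgroup G) : Set G) : Set G)) = w i := by
    intro i
    rw [← he, ← H841.Transport.image_inter, H841.Transport.commutingWidth_image]
    exact hwd i
  have hDc : ∀ g : G, ∀ d ∈ D, g * d * g⁻¹ ∈ D := by
    intro g d hd
    rw [← he] at hd ⊢
    obtain ⟨d, hd, rfl⟩ := hd
    refine ⟨e.symm g * d * (e.symm g)⁻¹, Cfsg.Agent.R08.FiTwentyFour.conj hd _, ?_⟩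
    rw [map_mul, map_mul, map_inv, MulEquiv.apply_symm_apply]
  refine ⟨fun i => (Subgroup.zpowers (x i)).map e.toMonoidHom, ?_, ?_, ?_, hwD⟩
  · intro i
    rw [H841.Transport.card_map, Nat.card_zpowers, orderOf_eq_prime (hx i) (hne i)]
  · intro i j h
    apply hw
    rw [← hwD i, ← hwD j]
    exact width_conj hDc h
  · intro X hX
    obtain ⟨z, hz⟩ : ∃ z : ↥(X.map e.symm.toMonoidHom), z ≠ 1 := by
      have h1 : Nat.card ↥(X.map e.symm.toMonoidHom) = 3 := by rw [H841.Transport.card_map, hX]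
      have h2 : 1 < Nat.card ↥(X.map e.symm.toMonoidHom) := by rw [h1]; norm_num
      have : Finite ↥(X.map e.symm.toMonoidHom) := Nat.finite_of_card_ne_zero (by rw [h1]; norm_num)
      have := Finite.one_lt_card_iff_nontrivial.1 h2
      exact exists_ne 1
    have h1 : Nat.card ↥(X.map e.symm.toMonoidHom) = 3 := by rw [H841.Transport.card_map, hX]
    have hz3 : (z : Fi24) ^ 3 = 1 := by
      have h2 : z ^ 3 = 1 := by rw [← h1]; exact pow_card_eq_one'
      exact congrArg Subtype.val h2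
    have hz1 : (z : Fi24) ≠ 1 := fun h => hz (Subtype.ext h)
    have hXz : X.map e.symm.toMonoidHom = zpowers (z : Fi24) := by
      have hf : Finite ↥(X.map e.symm.toMonoidHom) := Nat.finite_of_card_ne_zero (by rw [h1]; norm_num)
      symm
      apply Subgroup.eq_of_le_of_card_ge
      · rw [Subgroup.zpowers_le]
        exact z.2
      · rw [h1, Nat.card_zpowers, orderOf_eq_prime hz3 hz1]
    obtain ⟨i, g, h⟩ := hcl _ hz3 hz1
    refine ⟨i, e g, ?_⟩
    apply SevenMain.map_conj_of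
    rw [hXz, MonoidHom.map_zpowers]
    show zpowers (g * (z : Fi24) * g⁻¹) = _
    rcases h with h | h
    · rw [h]
    · rw [h, Subgroup.zpowers_inv]

/-! ### The widths -/

theorem width_one (F : FGroup L) : Cfsg.commutingWidth
    (L ∩ (Subgroup.centralizer ((Subgroup.zpowers (gen .l * gen .k) : Subgroup Fi24) : Set Fi24) : Set Fi24)) = 8 := by
  have := Cfsg.Agent.R08.FiTwentyFour.finite_Fi24
  have h1 : (Subgroup.centralizer ((Subgroup.zpowers (gen .l * gen .k) : Subgroup Fi24) : Set Fi24)) =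
      Subgroup.centralizer ({gen .l * gen .k} : Set Fi24) := by
    ext z
    rw [Subgroup.mem_centralizer_singleton_iff, Subgroup.mem_centralizer_iff]
    constructor
    · intro h
      exact (h _ (mem_zpowers _)).symm
    · rintro h _ ⟨i, rfl⟩
      have h2 : Commute z (gen .l * gen .k) := h
      exact (h2.symm.zpow_left i).eq
  rw [h1]
  have h2 := H840.NormX.inter_cent F (a := gen .l) (b := gen .k) (gen_mem_L .l) (gen_mem_L .k) H840.Lk.not_comm_lk
  rw [h2]
  exact H840.Width.width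

open Cfsg.Agent.H842.Frame Cfsg.Agent.H842.FrameF Cfsg.Agent.H842.ThreeCl
open Cfsg.Agent.H842.Frame.Dat (c1 c2 q)

theorem cube_of_Cj {y z : Fi24} (h : Cj ⊤ y z) (h3 : y ^ 3 = 1) : z ^ 3 = 1 := by
  obtain ⟨g, -, h | h⟩ := h
  · rw [← h]; exact cube_conj h3 g
  · have : z = (g * y * g⁻¹)⁻¹ := by rw [h, inv_inv]
    rw [this, inv_pow, cube_conj h3 g, inv_one]

theorem ne_of_Cj {y z : Fi24} (h : Cj ⊤ y z) (h1 : y ≠ 1) : z ≠ 1 := by
  obtain ⟨g, -, h | h⟩ := h
  · rw [← h]; exact ne_conj h1 g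
  · have : z = (g * y * g⁻¹)⁻¹ := by rw [h, inv_inv]
    rw [this]
    intro h2
    exact ne_conj h1 g (inv_eq_one.1 h2)

theorem R_cube (e : Fin 6 → ZMod 3) : F.R e ^ 3 = 1 := by
  have h : e + e + e = 0 := by
    ext i
    have : ∀ x : ZMod 3, x + x + x = 0 := by decide
    exact this _
  rw [pow_succ, pow_two, ← Dat.R_add, ← Dat.R_add, h, Dat.R_zero]

theorem rep_ne (k : Fin 6) : F.R (rep k) ≠ 1 := by
  intro h
  have h0 : ∀ k : Fin 6, ¬ ∀ i j : Fin 6, Frame.rep k i = Frame.rep k j := by decide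
  exact h0 k (F.R_eq_one h)

theorem x5_cube : F.x5 ^ 3 = 1 := by
  unfold Full.x5
  rw [pow_succ, pow_two, Dat.mul_form, Dat.mul_form]
  have h1 : q 1 1 * q 1 1 * q 1 1 = 1 := by decide
  have h2 : (fun i => (![1, 0, 0, 1, 0, 0] : Fin 6 → ZMod 3) i + (![1, 0, 0, 1, 0, 0] : Fin 6 → ZMod 3) ((q 1 1)⁻¹ i) +
      (![1, 0, 0, 1, 0, 0] : Fin 6 → ZMod 3) ((q 1 1 * q 1 1)⁻¹ i)) = fun _ => 1 := by decide
  rw [h1, map_one, mul_one, h2]
  exact hone

theorem X_cube : ∀ i, ThreeCl.X i ^ 3 = 1 := by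
  intro i
  fin_cases i
  · exact cube_of_Cj cj1 (R_cube _)
  · exact cube_of_Cj cj2 (R_cube _)
  · exact cube_of_Cj cj3 (R_cube _)
  · exact cube_of_Cj cj4 (R_cube _)
  · exact cube_of_Cj cj5 x5_cube

theorem X_ne : ∀ i, ThreeCl.X i ≠ 1 := by
  intro i
  fin_cases i
  · exact ne_of_Cj cj1 (rep_ne _)
  · exact ne_of_Cj cj2 (rep_ne _)
  · exact ne_of_Cj cj3 (rep_ne _)
  · exact ne_of_Cj cj4 (rep_ne _)
  · show word x5w ≠ 1
    intro h
    apply WFive.not_comm (gen_mem_L .l)
    rw [h]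
    exact Commute.one_left _

/-- the widths -/
def wd : Fin 5 → ℕ := ![8, 6, 5, 2, 0]

theorem X_width (F : FGroup L) : ∀ i, Cfsg.commutingWidth
    (L ∩ (Subgroup.centralizer ((Subgroup.zpowers (ThreeCl.X i) : Subgroup Fi24) : Set Fi24) : Set Fi24)) = wd i := by
  intro i
  fin_cases i
  · exact width_one F
  · exact H838.W24.width_two
  · have h := H834.WThree.width_x3
    rw [Cfsg.Agent.LThreeFi24.CaseB.word_x3] at h
    exact h
  · exact H838.W24.width_four
  · exact WFive.width_five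

/-- **The subgroups of order 3.** -/
theorem main {D : Set G} (e : Fi24 ≃* G) (he : e '' L = D) (FD : FGroup D) (hT : IsT8 D) :
    ∃ Y : Fin 5 → Subgroup G, (∀ i, Nat.card (Y i) = 3) ∧
      (∀ i j, (∃ g : G, (Y i).map (MulAut.conj g).toMonoidHom = Y j) → i = j) ∧
      (∀ X : Subgroup G, Nat.card X = 3 → ∃ i, ∃ g : G, X.map (MulAut.conj g).toMonoidHom = Y i) ∧
      Cfsg.commutingWidth (D ∩ (Subgroup.centralizer ((Y 0 : Subgroup G) : Set G) : Set G)) = 8 ∧
      Cfsg.commutingWidth (D ∩ (Subgroup.centralizer ((Y 1 : Subgroup G) : Set G) : Set G)) = 6 ∧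
      Cfsg.commutingWidth (D ∩ (Subgroup.centralizer ((Y 2 : Subgroup G) : Set G) : Set G)) = 5 ∧
      Cfsg.commutingWidth (D ∩ (Subgroup.centralizer ((Y 3 : Subgroup G) : Set G) : Set G)) = 2 ∧
      Cfsg.commutingWidth (D ∩ (Subgroup.centralizer ((Y 4 : Subgroup G) : Set G) : Set G)) = 0 := by
  have FL := fgroup_L e FD
  obtain ⟨Y, h1, h2, h3, h4⟩ := transfer e he ThreeCl.X X_cube X_ne
    (fun y => ThreeCl.all (H831.Types.inh_of_defs FL) (isT8_L e he hT)) wd (by decide) (X_width FL)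
  exact ⟨Y, h1, h2, h3, h4 0, h4 1, h4 2, h4 3, h4 4⟩

end Cfsg.Agent.H842.ThreeMain
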