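import Cfsg.Agent.H842.Trace
import Cfsg.Agent.Fischer480.Defs
import Cfsg.Agent.TSp.UCount

/-!
# Elements of order 3 in groups of type `T8` permute three commuting transpositions (helper842)

* `triple` : `y ^ 3 = 1`, `D` of type `T8` normalized by `y`: there are three different pairwise commuting members of `D`
  permuted cyclically or fixed by `y`.
-/

set_option autoImplicit false

namespace Cfsg.Agent.H842.Triple

open Cfsg Cfsg.Agent.Fischer480.Defs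

variable {G : Type*} [Group G] [Finite G]

open scoped Classical in
theorem step {E : Set G} {y : G} (h3 : y ^ 3 = 1) (hy : ∀ d ∈ E, y * d * y⁻¹ ∈ E) {v k l m : ℕ}
    (hv : E.ncard = v) (hk : ∀ x ∈ E, (Loc E x).ncard = k) (hl : ∀ x ∈ E, ∀ a ∈ Loc E x, (Loc (Loc E x) a).ncard = l)
    (hm : ∀ x ∈ E, ∀ a ∈ E, ¬ Commute x a → (Com E x a).ncard = m)
    {r s : ℤ} (h1 : r + s = l - m) (h2 : r * s = m - k) (hne : r ≠ s)
    (hdiv : ∀ n : ℕ, - s * (v : ℤ) ≠ 3 * (r - s) * n) :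
    ∃ x ∈ E, y * x * y⁻¹ = x ∨ (y * x * y⁻¹ ≠ x ∧ Commute x (y * x * y⁻¹)) := by
  by_contra hcon
  push Not at hcon
  have hfin : Fintype ↥E := Fintype.ofFinite _
  have hy3 : y * (y * y) = 1 := by rw [← h3, pow_succ, pow_two, mul_assoc]
  have hinv : y⁻¹ = y * y := by rw [inv_eq_iff_mul_eq_one, hy3]
  have hcc : ∀ x : G, y * (y * (y * x * y⁻¹) * y⁻¹) * y⁻¹ = x := by
    intro x
    calc y * (y * (y * x * y⁻¹) * y⁻¹) * y⁻¹ = (y * (y * y)) * x * (y * (y * y))⁻¹ := by group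
      _ = x := by rw [hy3]; group
  let σ : ↥E ≃ ↥E :=
    { toFun := fun d => ⟨y * d * y⁻¹, hy _ d.2⟩
      invFun := fun d => ⟨y * (y * d * y⁻¹) * y⁻¹, hy _ (hy _ d.2)⟩
      left_inv := fun d => Subtype.ext (hcc _)
      right_inv := fun d => Subtype.ext (hcc _) }
  let R : ↥E → ↥E → Prop := fun a b => (b : G) ≠ a ∧ Commute (a : G) b
  have cardset : ∀ (p : ↥E → Prop) [DecidablePred p] (S : Set G), (∀ z : G, z ∈ S ↔ ∃ h : z ∈ E, p ⟨z, h⟩) →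
      (Finset.univ.filter fun z => p z).card = S.ncard := by
    intro p _ S hS
    rw [← Set.ncard_coe_finset]
    have : S = Subtype.val '' (((Finset.univ.filter fun z => p z) : Finset ↥E) : Set ↥E) := by
      ext z
      rw [hS]
      constructor
      · rintro ⟨h, hp⟩
        exact ⟨⟨z, h⟩, by simpa using hp, rfl⟩
      · rintro ⟨⟨w, h⟩, hp, rfl⟩
        exact ⟨h, by simpa using hp⟩
    rw [this, Set.ncard_image_of_injective _ Subtype.val_injective]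
  suffices key : ∃ n : ℕ, - s * (Fintype.card ↥E : ℤ) = 3 * (r - s) * n by
    obtain ⟨n, hn⟩ := key
    apply hdiv n
    rw [← hn, ← hv, ← Nat.card_coe_set_eq, Nat.card_eq_fintype_card]
  refine Trace.main (V := ↥E) R (fun a b h => ⟨h.1.symm, h.2.symm⟩) (fun a h => h.1 rfl) (k := k) (l := l)
    (m := m) ?_ ?_ ?_ h1 h2 hne σ ?_ ?_ ?_ ?_
  · intro x
    rw [← hk x.1 x.2]
    refine cardset _ _ ?_
    intro z
    constructor
    · rintro ⟨a1, a2, a3⟩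
      exact ⟨a1, a2, a3⟩
    · rintro ⟨a1, a2, a3⟩
      exact ⟨a1, a2, a3⟩
  · rintro ⟨x, hx⟩ ⟨a, ha⟩ ⟨b1, b2⟩
    rw [← hl x hx a ⟨ha, b1, b2⟩]
    refine cardset _ _ ?_
    intro z
    constructor
    · rintro ⟨⟨a1, a2, a3⟩, a4, a5⟩
      exact ⟨a1, ⟨a2, a3⟩, Ne.symm a4, a5.symm⟩
    · rintro ⟨a1, ⟨a2, a3⟩, a4, a5⟩
      exact ⟨⟨a1, a2, a3⟩, Ne.symm a4, a5.symm⟩
  · rintro ⟨x, hx⟩ ⟨a, ha⟩ hxa hR
    have hxa' : ¬ Commute x a := by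
      intro h
      apply hR
      refine ⟨?_, h⟩
      intro h'
      exact hxa (Subtype.ext h'.symm)
    rw [← hm x hx a ha hxa']
    refine cardset _ _ ?_
    intro z
    constructor
    · rintro ⟨a1, a2, a3⟩
      refine ⟨a1, ⟨?_, a2⟩, ?_, a3.symm⟩
      · rintro rfl
        exact hxa' a3.symm
      · rintro rfl
        exact hxa' a2
    · rintro ⟨a1, ⟨a2, a3⟩, a4, a5⟩
      exact ⟨a1, a3, a5.symm⟩
  · intro x
    exact Subtype.ext (hcc _)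
  · rintro ⟨a, ha⟩ ⟨b, hb⟩
    show (y * b * y⁻¹ ≠ y * a * y⁻¹ ∧ Commute (y * a * y⁻¹) (y * b * y⁻¹)) ↔ (b ≠ a ∧ Commute a b)
    have e1 : (y * b * y⁻¹ = y * a * y⁻¹) ↔ b = a := by
      constructor
      · intro h
        exact mul_left_cancel (mul_right_cancel h)
      · rintro rfl
        rfl
    have e2 : Commute (y * a * y⁻¹) (y * b * y⁻¹) ↔ Commute a b := by
      constructor
      · intro h
        have h4 := h.map (MulAut.conj y⁻¹).toMonoidHom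
        have h5 : ∀ x : G, (MulAut.conj y⁻¹).toMonoidHom (y * x * y⁻¹) = x := by
          intro x
          show y⁻¹ * (y * x * y⁻¹) * y⁻¹⁻¹ = x
          group
        rwa [h5, h5] at h4
      · intro h
        exact h.map (MulAut.conj y).toMonoidHom
    rw [Ne, e1, e2]
  · rintro ⟨a, ha⟩ h
    exact (hcon a ha).1 (congrArg Subtype.val h)
  · rintro ⟨a, ha⟩ ⟨b1, b2⟩
    exact (hcon a ha).2 b1 b2

theorem step_six {E : Set G} (hE : IsT6 E) {y : G} (h3 : y ^ 3 = 1) (hy : ∀ d ∈ E, y * d * y⁻¹ ∈ E) :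
    ∃ x ∈ E, y * x * y⁻¹ = x ∨ (y * x * y⁻¹ ≠ x ∧ Commute x (y * x * y⁻¹)) := by
  refine step h3 hy (v := 3510) (k := 693) (l := 180) (m := 126) hE.1
    (fun x hx => (TSp.UCount.numbers_six (hE.2.1 x hx)).1)
    (fun x hx a ha => (TSp.UCount.numbers_six (hE.2.1 x hx)).2.1 a ha) hE.2.2 (r := 63) (s := -9) (by norm_num)
    (by norm_num) (by norm_num) ?_
  intro n h
  push_cast at h
  omega

theorem step_seven {E : Set G} (hE : IsT7 E) {y : G} (h3 : y ^ 3 = 1) (hy : ∀ d ∈ E, y * d * y⁻¹ ∈ E) :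
    ∃ x ∈ E, y * x * y⁻¹ = x ∨ (y * x * y⁻¹ ≠ x ∧ Commute x (y * x * y⁻¹)) := by
  refine step h3 hy (v := 31671) (k := 3510) (l := 693) (m := 351) hE.1
    (fun x hx => (hE.2.1 x hx).1)
    (fun x hx a ha => (TSp.UCount.numbers_six ((hE.2.1 x hx).2.1 a ha)).1) hE.2.2 (r := 351) (s := -9) (by norm_num)
    (by norm_num) (by norm_num) ?_
  intro n h
  push_cast at h
  omega

theorem step_eight {E : Set G} (hE : IsT8 E) {y : G} (h3 : y ^ 3 = 1) (hy : ∀ d ∈ E, y * d * y⁻¹ ∈ E) :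
    ∃ x ∈ E, y * x * y⁻¹ = x ∨ (y * x * y⁻¹ ≠ x ∧ Commute x (y * x * y⁻¹)) := by
  refine step h3 hy (v := 306936) (k := 31671) (l := 3510) (m := 3240) hE.1
    (fun x hx => (hE.2.1 x hx).1)
    (fun x hx a ha => ((hE.2.1 x hx).2.1 a ha).1) hE.2.2 (r := 351) (s := -81) (by norm_num)
    (by norm_num) (by norm_num) ?_
  intro n h
  push_cast at h
  omega

/-- `t₁, t₂, t₃` are different commuting members of `D` -/
structure Tri (D : Set G) (t₁ t₂ t₃ : G) : Prop where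
  m1 : t₁ ∈ D
  m2 : t₂ ∈ D
  m3 : t₃ ∈ D
  n12 : t₂ ≠ t₁
  n13 : t₃ ≠ t₁
  n23 : t₃ ≠ t₂
  c12 : Commute t₁ t₂
  c13 : Commute t₁ t₃
  c23 : Commute t₂ t₃

omit [Finite G] in
/-- a moved point commuting with its image -/
theorem tri_of_moved {D : Set G} {y x : G} (h3 : y ^ 3 = 1) (hy : ∀ d ∈ D, y * d * y⁻¹ ∈ D) (hx : x ∈ D)
    (h1 : y * x * y⁻¹ ≠ x) (h2 : Commute x (y * x * y⁻¹)) :
    ∃ t₁ t₂ t₃ : G, Tri D t₁ t₂ t₃ ∧ y * t₁ * y⁻¹ = t₂ ∧ y * t₂ * y⁻¹ = t₃ ∧ y * t₃ * y⁻¹ = t₁ := by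
  have hy3 : y * (y * y) = 1 := by rw [← h3, pow_succ, pow_two, mul_assoc]
  have hcc : y * (y * (y * x * y⁻¹) * y⁻¹) * y⁻¹ = x := by
    calc y * (y * (y * x * y⁻¹) * y⁻¹) * y⁻¹ = (y * (y * y)) * x * (y * (y * y))⁻¹ := by group
      _ = x := by rw [hy3]; group
  have h4 : Commute (y * x * y⁻¹) (y * (y * x * y⁻¹) * y⁻¹) := h2.map (MulAut.conj y).toMonoidHom
  have h5 : Commute (y * (y * x * y⁻¹) * y⁻¹) (y * (y * (y * x * y⁻¹) * y⁻¹) * y⁻¹) :=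
    h4.map (MulAut.conj y).toMonoidHom
  rw [hcc] at h5
  have inj : ∀ a b : G, y * a * y⁻¹ = y * b * y⁻¹ → a = b := fun a b h => mul_left_cancel (mul_right_cancel h)
  have h6 : y * (y * x * y⁻¹) * y⁻¹ ≠ y * x * y⁻¹ := fun h => h1 (inj _ _ h)
  have h7 : y * (y * x * y⁻¹) * y⁻¹ ≠ x := by
    intro h
    apply h1
    have h8 : y * (y * (y * x * y⁻¹) * y⁻¹) * y⁻¹ = y * x * y⁻¹ := by rw [h]
    rw [hcc] at h8
    exact h8.symm
  exact ⟨x, _, _, ⟨hx, hy _ hx, hy _ (hy _ hx), h1, h7, h6, h2, h5.symm, h4⟩, rfl, rfl, hcc⟩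

/-- **Three commuting transpositions permuted by an element of order 3.** -/
theorem triple {D : Set G} (hD : IsT8 D) {y : G} (h3 : y ^ 3 = 1) (hy : ∀ d ∈ D, y * d * y⁻¹ ∈ D) :
    ∃ t₁ t₂ t₃ : G, Tri D t₁ t₂ t₃ ∧
      ((y * t₁ * y⁻¹ = t₂ ∧ y * t₂ * y⁻¹ = t₃ ∧ y * t₃ * y⁻¹ = t₁) ∨
        (y * t₁ * y⁻¹ = t₁ ∧ y * t₂ * y⁻¹ = t₂ ∧ y * t₃ * y⁻¹ = t₃)) := by
  have stab : ∀ (E : Set G) (x : G), (∀ d ∈ E, y * d * y⁻¹ ∈ E) → y * x * y⁻¹ = x → ∀ d ∈ Loc E x, y * d * y⁻¹ ∈ Loc E x := by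
    rintro E x hE hx d ⟨a1, a2, a3⟩
    refine ⟨hE _ a1, ?_, ?_⟩
    · intro h
      apply a2
      have h' : y * d * y⁻¹ = y * x * y⁻¹ := by rw [h, hx]
      exact mul_left_cancel (mul_right_cancel h')
    · have h := a3.map (MulAut.conj y).toMonoidHom
      have h' : Commute (y * x * y⁻¹) (y * d * y⁻¹) := h
      rwa [hx] at h'
  obtain ⟨x, hx, h | ⟨h, h'⟩⟩ := step_eight hD h3 hy
  · obtain ⟨x₂, hx₂, k | ⟨k, k'⟩⟩ := step_seven (hD.2.1 x hx) h3 (stab _ _ hy h)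
    · obtain ⟨x₃, hx₃, q | ⟨q, q'⟩⟩ := step_six ((hD.2.1 x hx).2.1 x₂ hx₂) h3 (stab _ _ (stab _ _ hy h) k)
      · exact ⟨x, x₂, x₃, ⟨hx, hx₂.1, hx₃.1.1, hx₂.2.1, hx₃.1.2.1, hx₃.2.1, hx₂.2.2, hx₃.1.2.2, hx₃.2.2⟩, Or.inr ⟨h, k, q⟩⟩
      · obtain ⟨t₁, t₂, t₃, h1, h2⟩ := tri_of_moved h3 hy hx₃.1.1 q q'
        exact ⟨t₁, t₂, t₃, h1, Or.inl h2⟩
    · obtain ⟨t₁, t₂, t₃, h1, h2⟩ := tri_of_moved h3 hy hx₂.1 k k'
      exact ⟨t₁, t₂, t₃, h1, Or.inl h2⟩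
  · obtain ⟨t₁, t₂, t₃, h1, h2⟩ := tri_of_moved h3 hy hx h h'
    exact ⟨t₁, t₂, t₃, h1, Or.inl h2⟩

end Cfsg.Agent.H842.Triple
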