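import Cfsg.Agent.H831.Triple8
import Cfsg.Agent.H831.USix
import Cfsg.Agent.H842.Triple

/-!
# Triples of commuting transpositions in type `T8`: transitivity, order of the stabilizer (helper842)

* `tri_trans` : `G` is transitive on the ordered triples of different commuting members of `D`.
* `card_dvd` : the order of the stabilizer of the set `{t₁, t₂, t₃}` divides `48 |PSU(6,2)|`.
* `conj_into` : Sylow argument.
-/

set_option autoImplicit false

namespace Cfsg.Agent.H842.TripTr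

open Cfsg Cfsg.Agent.SporadicStructure.FischerSpace Cfsg.Agent.ThreeTransPolar.Basic
open Cfsg.Agent.ThreeTransPolar.Lines
open Cfsg.Agent.Fischer160.Inherit hiding Dx
open Cfsg.Agent.Fischer480.Defs hiding FGroup
open Cfsg.Agent.TSp.Perp Cfsg.Agent.TSp.LTrans
open Cfsg.Agent.TSp.CL Cfsg.Agent.TSp.Orders Cfsg.Agent.TSp.OrdersT
open Cfsg.Agent.H831 Cfsg.Agent.H831.Types Cfsg.Agent.H831.Short Cfsg.Agent.H831.Cent Cfsg.Agent.H831.Eight
open Cfsg.Agent.H842.Triple (Tri)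

universe u

variable {G : Type u} [Group G] {D : Set G} [Finite G]

theorem tri_trans (F : FGroup D) (h : IsT8 D) {t₁ t₂ t₃ s₁ s₂ s₃ : G} (T : Tri D t₁ t₂ t₃) (T' : Tri D s₁ s₂ s₃) :
    ∃ g : G, g * t₁ * g⁻¹ = s₁ ∧ g * t₂ * g⁻¹ = s₂ ∧ g * t₃ * g⁻¹ = s₃ := by
  have cj : ∀ {a b g : G}, Commute a b → Commute (g * a * g⁻¹) (g * b * g⁻¹) := by
    intro a b g hab
    exact hab.map (MulAut.conj g).toMonoidHom
  have inj : ∀ {a b g : G}, g * a * g⁻¹ = g * b * g⁻¹ → a = b := fun h => mul_left_cancel (mul_right_cancel h)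
  obtain ⟨g₁, hg₁⟩ := F.fd.single t₁ T.m1 s₁ T'.m1
  have h2 : g₁ * t₂ * g₁⁻¹ ∈ Loc D s₁ := by
    refine ⟨F.fd.conj _ _ T.m2, ?_, ?_⟩
    · intro h4
      exact T.n12 (inj (h4.trans hg₁.symm))
    · have := cj (g := g₁) T.c12
      rwa [hg₁] at this
  have m2 : s₂ ∈ Loc D s₁ := ⟨T'.m2, T'.n12, T'.c12⟩
  have m3 : s₃ ∈ Loc D s₁ := ⟨T'.m3, T'.n13, T'.c13⟩
  obtain ⟨k, hk, hkd⟩ := Cfsg.Agent.SporadicStructure.FischerRank3.perp_single_class F.fd F.sol F.perf T'.m1 _ h2 _ m2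
  have hks : k * s₁ * k⁻¹ = s₁ := by
    rw [(commute_of_mem_HH (D := D) hk).eq, mul_inv_cancel_right]
  set g₂ := k * g₁ with hg₂
  have a1 : g₂ * t₁ * g₂⁻¹ = s₁ := by
    calc g₂ * t₁ * g₂⁻¹ = k * (g₁ * t₁ * g₁⁻¹) * k⁻¹ := by rw [hg₂]; group
      _ = s₁ := by rw [hg₁, hks]
  have a2 : g₂ * t₂ * g₂⁻¹ = s₂ := by
    rw [← hkd, hg₂]; group
  have h3 : g₂ * t₃ * g₂⁻¹ ∈ Loc D s₁ := by
    refine ⟨F.fd.conj _ _ T.m3, ?_, ?_⟩
    · intro h4
      exact T.n13 (inj (h4.trans a1.symm))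
    · have := cj (g := g₂) T.c13
      rwa [a1] at this
  have h3n : g₂ * t₃ * g₂⁻¹ ≠ s₂ := by
    intro h4
    exact T.n23 (inj (h4.trans a2.symm))
  have h3c : Commute s₂ (g₂ * t₃ * g₂⁻¹) := by
    have := cj (g := g₂) T.c23
    rwa [a2] at this
  have hth := thin_of_thinLines (T8.thin F h) T'.m1
  obtain ⟨FE, hE⟩ := T8.sub F h T'.m1
  have b3 : β D s₁ (g₂ * t₃ * g₂⁻¹) ∈ Loc (Eb D s₁) (β D s₁ s₂) := by
    refine ⟨β_mem h3, ?_, (β_commute F.fd hth m2 h3).2 h3c⟩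
    intro h4
    exact h3n (β_inj hth h3 m2 h4)
  have b3' : β D s₁ s₃ ∈ Loc (Eb D s₁) (β D s₁ s₂) := by
    refine ⟨β_mem m3, ?_, (β_commute F.fd hth m2 m3).2 T'.c23⟩
    intro h4
    exact T'.n23 (β_inj hth m3 m2 h4)
  obtain ⟨k', hk', hkd'⟩ := Cfsg.Agent.SporadicStructure.FischerRank3.perp_single_class FE.fd FE.sol FE.perf
    (β_mem m2) _ b3 _ b3'
  obtain ⟨g₃, hg₃, rfl⟩ := β_surj' k'
  have hc := commute_of_mem_HH hg₃
  have hc' := commute_of_mem_HH (D := Eb D s₁) hk'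
  have c1 : g₃ * s₁ * g₃⁻¹ = s₁ := by rw [hc.eq, mul_inv_cancel_right]
  have c2 : g₃ * s₂ * g₃⁻¹ = s₂ := by
    apply β_inj hth (cj_mem_Dx F.fd hc m2) m2
    rw [β_conj hg₃ (mem_HH_of m2), hc'.eq, mul_inv_cancel_right]
  have c3 : g₃ * (g₂ * t₃ * g₂⁻¹) * g₃⁻¹ = s₃ := by
    apply β_inj hth (cj_mem_Dx F.fd hc h3) m3
    rw [β_conj hg₃ (mem_HH_of h3), hkd']
  refine ⟨g₃ * g₂, ?_, ?_, ?_⟩
  · calc g₃ * g₂ * t₁ * (g₃ * g₂)⁻¹ = g₃ * (g₂ * t₁ * g₂⁻¹) * g₃⁻¹ := by group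
      _ = s₁ := by rw [a1, c1]
  · calc g₃ * g₂ * t₂ * (g₃ * g₂)⁻¹ = g₃ * (g₂ * t₂ * g₂⁻¹) * g₃⁻¹ := by group
      _ = s₂ := by rw [a2, c2]
  · calc g₃ * g₂ * t₃ * (g₃ * g₂)⁻¹ = g₃ * (g₂ * t₃ * g₂⁻¹) * g₃⁻¹ := by group
      _ = s₃ := c3

omit [Finite G] in
/-- the action of the normalizer of a set on this set -/
def act (T : Set G) : ↥(Subgroup.normalizer T) →* Equiv.Perm ↥T where
  toFun g :=
    { toFun := fun t => ⟨g * t * (g : G)⁻¹, (g.2 t).1 t.2⟩
      invFun := fun t => ⟨(g : G)⁻¹ * t * g, (g.2 _).2 (by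
        have : (g : G) * ((g : G)⁻¹ * t * g) * (g : G)⁻¹ = t := by group
        rw [this]; exact t.2)⟩
      left_inv := fun t => Subtype.ext (by show (g : G)⁻¹ * (g * t * (g : G)⁻¹) * g = t; group)
      right_inv := fun t => Subtype.ext (by show (g : G) * ((g : G)⁻¹ * t * g) * (g : G)⁻¹ = t; group) }
  map_one' := by
    ext t
    show (1 : G) * t * (1 : G)⁻¹ = t
    group
  map_mul' g k := by
    ext t
    show ((g : G) * k) * t * ((g : G) * k)⁻¹ = g * (k * t * (k : G)⁻¹) * (g : G)⁻¹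
    group

theorem card_normalizer_dvd (T : Set G) :
    Nat.card ↥(Subgroup.normalizer T) ∣ Nat.card ↥(Subgroup.centralizer T) * (Nat.card ↥T).factorial := by
  have h1 : Nat.card ↥(act T).ker * Nat.card ↥(act T).range = Nat.card ↥(Subgroup.normalizer T) := by
    rw [← Subgroup.card_mul_index (act T).ker, Subgroup.index_ker]
  have h2 : Nat.card ↥(act T).range ∣ (Nat.card ↥T).factorial := by
    rw [← Nat.card_perm]
    exact Subgroup.card_subgroup_dvd_card _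
  have h3 : Nat.card ↥(act T).ker ∣ Nat.card ↥(Subgroup.centralizer T) := by
    have h4 : (act T).ker.map (Subgroup.normalizer T).subtype ≤ Subgroup.centralizer T := by
      rintro _ ⟨g, hg, rfl⟩
      rw [Subgroup.mem_centralizer_iff]
      intro t ht
      have h5 := congrArg (fun p : Equiv.Perm ↥T => ((p ⟨t, ht⟩ : ↥T) : G)) (MonoidHom.mem_ker.1 hg)
      have h6 : (g : G) * t * (g : G)⁻¹ = t := h5
      show t * (g : G) = g * t
      rw [mul_inv_eq_iff_eq_mul] at h6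
      exact h6.symm
    have h5 := Subgroup.card_dvd_of_le h4
    rwa [Nat.card_congr ((act T).ker.equivMapOfInjective _ (Subgroup.normalizer T).subtype_injective).toEquiv.symm] at h5
  rw [← h1]
  exact Nat.mul_dvd_mul h3 h2

/-- the order of the stabilizer of three commuting transpositions -/
theorem card_dvd (F : FGroup D) (h : IsT8 D) {t₁ t₂ t₃ : G} (T : Tri D t₁ t₂ t₃) :
    Nat.card ↥(Subgroup.normalizer ({t₁, t₂, t₃} : Set G)) ∣ 441447874560 := by
  obtain ⟨L, i1, i2, hL, σ, hs, hk, -⟩ := Triple8.exists_sigma F h T.m1 T.m2 T.m3 T.n12.symm T.n13.symm T.n23.symm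
    T.c12 T.c13 T.c23
  have sq : ∀ {a : G}, a ∈ D → a * a = 1 := fun ha => by
    have := F.fd.sq _ ha
    first
      | exact this
      | rwa [sq] at this
  have hker : Nat.card ↥σ.ker ∣ 4 := by
    have hp : IsPGroup 2 ↥σ.ker := by
      intro g
      refine ⟨1, ?_⟩
      rw [pow_one, pow_two]
      apply Subtype.ext
      apply Subtype.ext
      have h1 := (hk g.1).1 (MonoidHom.mem_ker.1 g.2)
      show ((g.1 : _) : G) * (g.1 : _) = 1
      have key : ∀ {a b : G}, a ∈ D → b ∈ D → Commute a b → (a * b) * (a * b) = 1 := by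
        intro a b ha hb hab
        calc a * b * (a * b) = a * (b * a) * b := by group
          _ = (a * a) * (b * b) := by rw [hab.symm.eq]; group
          _ = 1 := by rw [sq ha, sq hb, one_mul]
      rcases h1 with h1 | h1 | h1 | h1
      · rw [h1, one_mul]
      · rw [h1]; exact key T.m1 T.m2 T.c12
      · rw [h1]; exact key T.m1 T.m3 T.c13
      · rw [h1]; exact key T.m2 T.m3 T.c23
    obtain ⟨n, hn⟩ := IsPGroup.iff_card.1 hp
    have hle : Nat.card ↥σ.ker ≤ 4 := by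
      have h1 : Nat.card ↥σ.ker = ((fun g : ↥(commutator G ⊓ Subgroup.centralizer ({t₁, t₂, t₃} : Set G)) => (g : G)) '' (σ.ker : Set _)).ncard := by
        rw [Set.ncard_image_of_injective _ Subtype.val_injective]
        rfl
      rw [h1]
      have h2 : ((fun g : ↥(commutator G ⊓ Subgroup.centralizer ({t₁, t₂, t₃} : Set G)) => (g : G)) '' (σ.ker : Set _)) ⊆ {1, t₁ * t₂, t₁ * t₃, t₂ * t₃} := by
        rintro _ ⟨g, hg, rfl⟩
        exact (hk g).1 (MonoidHom.mem_ker.1 hg)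
      refine (Set.ncard_le_ncard h2 (Set.toFinite _)).trans ?_
      refine (Set.ncard_insert_le _ _).trans ?_
      have := Set.ncard_insert_le (t₁ * t₂) {t₁ * t₃, t₂ * t₃}
      have := Set.ncard_insert_le (t₁ * t₃) {t₂ * t₃}
      have := Set.ncard_singleton (t₂ * t₃)
      omega
    rw [hn] at hle ⊢
    have hn2 : n ≤ 2 := by
      by_contra hcon
      push Not at hcon
      have : 2 ^ 3 ≤ 2 ^ n := Nat.pow_le_pow_right (by norm_num) hcon
      omega
    exact pow_dvd_pow 2 hn2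
  have h1 : Nat.card ↥(commutator G ⊓ Subgroup.centralizer ({t₁, t₂, t₃} : Set G)) = Nat.card ↥σ.ker * 9196830720 := by
    rw [← Subgroup.card_mul_index σ.ker, Subgroup.index_ker, MonoidHom.range_eq_top.2 hs,
      Nat.card_congr Subgroup.topEquiv.toEquiv, USix.card_PSU' hL]
  have h2 : Nat.card ↥(Subgroup.centralizer ({t₁, t₂, t₃} : Set G)) ∣ Nat.card ↥(commutator G ⊓ Subgroup.centralizer ({t₁, t₂, t₃} : Set G)) * 2 := by
    have h3 := Subgroup.card_mul_index ((commutator G).subgroupOf (Subgroup.centralizer ({t₁, t₂, t₃} : Set G)))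
    have h4 : Nat.card ↥((commutator G).subgroupOf (Subgroup.centralizer ({t₁, t₂, t₃} : Set G))) =
        Nat.card ↥(commutator G ⊓ Subgroup.centralizer ({t₁, t₂, t₃} : Set G)) := by
      rw [← Subgroup.inf_subgroupOf_right]
      exact Nat.card_congr (Subgroup.subgroupOfEquivOfLe inf_le_right).toEquiv
    have h5 : ((commutator G).subgroupOf (Subgroup.centralizer ({t₁, t₂, t₃} : Set G))).index ∣ 2 := by
      rw [← T8.index_commutator F h]
      exact Subgroup.relIndex_dvd_index_of_normal _ _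
    rw [← h3, h4]
    exact Nat.mul_dvd_mul_left _ h5
  have h6 : Nat.card ↥({t₁, t₂, t₃} : Set G) ≤ 3 := by
    rw [Nat.card_coe_set_eq]
    refine (Set.ncard_insert_le _ _).trans ?_
    have := Set.ncard_insert_le t₂ {t₃}
    have := Set.ncard_singleton t₃
    omega
  have h7 := card_normalizer_dvd ({t₁, t₂, t₃} : Set G)
  refine h7.trans ?_
  have h8 : (Nat.card ↥({t₁, t₂, t₃} : Set G)).factorial ∣ 6 := by
    have : (3 : ℕ).factorial = 6 := rfl
    rw [← this]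
    exact Nat.factorial_dvd_factorial h6
  have h9 : Nat.card ↥(Subgroup.centralizer ({t₁, t₂, t₃} : Set G)) ∣ 4 * 9196830720 * 2 := by
    refine h2.trans (Nat.mul_dvd_mul_right ?_ _)
    rw [h1]
    exact Nat.mul_dvd_mul_right hker _
  exact (Nat.mul_dvd_mul h9 h8).trans (by norm_num)

omit [Finite G] in
/-- an element of order 3 is conjugate into a Sylow 3-subgroup of order `3^7` -/
theorem conj_into {M P : Subgroup G} (hfin : Finite ↥M) (hPM : P ≤ M) (hP : Nat.card ↥P = 3 ^ 7)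
    (hM : ¬ 3 ^ 8 ∣ Nat.card ↥M) {y : G} (hy : y ∈ M) (h3 : y ^ 3 = 1) : ∃ g ∈ M, g * y * g⁻¹ ∈ P := by
  have : Fact (Nat.Prime 3) := ⟨by norm_num⟩
  have h0 : Nat.card ↥M ≠ 0 := Nat.card_pos.ne'
  have hPc : Nat.card ↥(P.subgroupOf M) = 3 ^ 7 := by
    rw [← hP]
    exact Nat.card_congr (Subgroup.subgroupOfEquivOfLe hPM).toEquiv
  have hfac : (Nat.card ↥M).factorization 3 = 7 := by
    apply le_antisymm
    · by_contra hcon
      push Not at hcon
      exact hM ((Nat.prime_three.pow_dvd_iff_le_factorization h0).2 hcon)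
    · rw [← Nat.prime_three.pow_dvd_iff_le_factorization h0, ← hPc]
      exact Subgroup.card_subgroup_dvd_card _
  let Q : Sylow 3 ↥M := Sylow.ofCard (P.subgroupOf M) (by rw [hPc, hfac])
  have hp : IsPGroup 3 ↥(Subgroup.zpowers (⟨y, hy⟩ : ↥M)) := by
    apply IsPGroup.of_card (n := (Nat.card ↥(Subgroup.zpowers (⟨y, hy⟩ : ↥M))).factorization 3)
    have h1 : orderOf (⟨y, hy⟩ : ↥M) ∣ 3 := by
      apply orderOf_dvd_of_pow_eq_one
      exact Subtype.ext h3
    rw [Nat.card_zpowers]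
    rcases (Nat.dvd_prime Nat.prime_three).1 h1 with h2 | h2
    · rw [h2]; simp
    · rw [h2, Nat.Prime.factorization_self Nat.prime_three, pow_one]
  obtain ⟨Q', hQ'⟩ := hp.exists_le_sylow
  obtain ⟨g, hg⟩ := MulAction.exists_smul_eq ↥M Q' Q
  refine ⟨g, g.2, ?_⟩
  have h1 : g * (⟨y, hy⟩ : ↥M) * g⁻¹ ∈ (Q : Subgroup ↥M) := by
    rw [← hg, Sylow.coe_subgroup_smul]
    exact ⟨⟨y, hy⟩, hQ' (Subgroup.mem_zpowers _), rfl⟩
  exact h1

end Cfsg.Agent.H842.TripTr
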