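import Mathlib

/-!
# Six commuting elements of order 3 permuted by a symmetric group (helper842)

Abstract monomial group `3^5 : S₆`.

* `Dat` : a homomorphism `S : Perm (Fin 6) →* G` and `c` of order 3 commuting with the stabilizer of `5`, `c` commutes with
  its conjugate by `(4 5)` and the product of the six conjugates is trivial.
* `Dat.R` : the homomorphism from `(ZMod 3)^6`.
* `Dat.P` : the Sylow 3-subgroup, of order `3^7`.
* `Dat.cases` : the elements of order 3 of `P` up to conjugation, `κ` being a further element.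
-/

set_option autoImplicit false

namespace Cfsg.Agent.H842.Frame

open Equiv Subgroup

structure Dat (G : Type*) [Group G] where
  S : Perm (Fin 6) →* G
  c : G
  h01 : Commute (S (swap 0 1)) c
  h12 : Commute (S (swap 1 2)) c
  h23 : Commute (S (swap 2 3)) c
  h34 : Commute (S (swap 3 4)) c
  c3 : c ^ 3 = 1
  hcomm : Commute (S (swap 4 5) * c * (S (swap 4 5))⁻¹) c
  ne : S (swap 4 5) * c * (S (swap 4 5))⁻¹ ≠ c

variable {G : Type*} [Group G] (d : Dat G)

namespace Dat

theorem comm_third {i j k : Fin 6} (hij : i ≠ j) (hik : i ≠ k) (hjk : j ≠ k) (h1 : Commute (d.S (swap i j)) d.c)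
    (h2 : Commute (d.S (swap j k)) d.c) : Commute (d.S (swap i k)) d.c := by
  have h3 : swap i k = swap i j * swap j k * swap i j := by
    ext x
    simp only [Perm.mul_apply, swap_apply_def]
    congr 1
    split_ifs <;> simp_all
  rw [h3, map_mul, map_mul]
  exact (h1.mul_left h2).mul_left h1

theorem comm_swap (i j : Fin 6) (hi : i ≠ 5) (hj : j ≠ 5) : Commute (d.S (swap i j)) d.c := by
  have s : ∀ {i j : Fin 6}, Commute (d.S (swap i j)) d.c → Commute (d.S (swap j i)) d.c := by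
    intro i j h
    rwa [swap_comm]
  have r : ∀ i : Fin 6, Commute (d.S (swap i i)) d.c := by
    intro i
    rw [swap_self]
    show Commute (d.S 1) d.c
    rw [map_one]
    exact Commute.one_left _
  have h02 := d.comm_third (i := 0) (j := 1) (k := 2) (by decide) (by decide) (by decide) d.h01 d.h12
  have h03 := d.comm_third (i := 0) (j := 2) (k := 3) (by decide) (by decide) (by decide) h02 d.h23
  have h04 := d.comm_third (i := 0) (j := 3) (k := 4) (by decide) (by decide) (by decide) h03 d.h34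
  have h13 := d.comm_third (i := 1) (j := 2) (k := 3) (by decide) (by decide) (by decide) d.h12 d.h23
  have h14 := d.comm_third (i := 1) (j := 3) (k := 4) (by decide) (by decide) (by decide) h13 d.h34
  have h24 := d.comm_third (i := 2) (j := 3) (k := 4) (by decide) (by decide) (by decide) d.h23 d.h34
  fin_cases i <;> fin_cases j <;>
    first
      | exact absurd rfl hi
      | exact absurd rfl hj
      | exact r _
      | exact d.h01
      | exact s d.h01
      | exact d.h12
      | exact s d.h12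
      | exact d.h23
      | exact s d.h23
      | exact d.h34
      | exact s d.h34
      | exact h02
      | exact s h02
      | exact h03
      | exact s h03
      | exact h04
      | exact s h04
      | exact h13
      | exact s h13
      | exact h14
      | exact s h14
      | exact h24
      | exact s h24

theorem comm_fix (σ : Perm (Fin 6)) (hσ : σ 5 = 5) : Commute (d.S σ) d.c := by
  induction hn : σ.support.card using Nat.strong_induction_on generalizing σ with
  | _ n ih =>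
    by_cases h1 : σ = 1
    · rw [h1, map_one]; exact Commute.one_left _
    obtain ⟨i, hi⟩ : ∃ i, σ i ≠ i := by
      by_contra hcon
      push Not at hcon
      exact h1 (Equiv.ext hcon)
    have hi5 : i ≠ 5 := by rintro rfl; exact hi hσ
    have hsi5 : σ i ≠ 5 := by
      intro h
      exact hi5 (σ.injective (h.trans hσ.symm))
    have h2 := Equiv.Perm.card_support_swap_mul hi
    have h3 : (swap i (σ i) * σ) 5 = 5 := by
      rw [Perm.mul_apply, hσ, swap_apply_of_ne_of_ne hi5.symm hsi5.symm]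
    have h4 := ih _ (by rw [← hn]; exact h2) (swap i (σ i) * σ) h3 rfl
    have h5 : σ = swap i (σ i) * (swap i (σ i) * σ) := by
      rw [← mul_assoc, swap_mul_self, one_mul]
    have h6 := (d.comm_swap i (σ i) hi5 hsi5).mul_left h4
    rw [← map_mul, ← h5] at h6
    exact h6

/-- the six elements -/
def r (i : Fin 6) : G := d.S (swap i 5) * d.c * (d.S (swap i 5))⁻¹

theorem r_five : d.r 5 = d.c := by
  unfold r
  rw [swap_self]
  show d.S 1 * d.c * (d.S 1)⁻¹ = d.c
  rw [map_one]; group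

theorem r_conj (σ : Perm (Fin 6)) (i : Fin 6) : d.S σ * d.r i * (d.S σ)⁻¹ = d.r (σ i) := by
  unfold r
  have h1 : (swap (σ i) 5 * (σ * swap i 5)) 5 = 5 := by
    simp [Perm.mul_apply]
  have h2 := d.comm_fix _ h1
  have h3 : σ * swap i 5 = swap (σ i) 5 * (swap (σ i) 5 * (σ * swap i 5)) := by
    rw [← mul_assoc, swap_mul_self, one_mul]
  have h4 : d.S σ * (d.S (swap i 5) * d.c * (d.S (swap i 5))⁻¹) * (d.S σ)⁻¹ =
      d.S (σ * swap i 5) * d.c * (d.S (σ * swap i 5))⁻¹ := by
    rw [map_mul]; group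
  rw [h4, h3, map_mul]
  have h5 := h2.eq
  calc d.S (swap (σ i) 5) * d.S (swap (σ i) 5 * (σ * swap i 5)) * d.c *
      (d.S (swap (σ i) 5) * d.S (swap (σ i) 5 * (σ * swap i 5)))⁻¹
      = d.S (swap (σ i) 5) * (d.S (swap (σ i) 5 * (σ * swap i 5)) * d.c) *
        (d.S (swap (σ i) 5 * (σ * swap i 5)))⁻¹ * (d.S (swap (σ i) 5))⁻¹ := by group
    _ = d.S (swap (σ i) 5) * d.c * (d.S (swap (σ i) 5))⁻¹ := by rw [h5]; group

theorem exists_perm {i j : Fin 6} (hij : i ≠ j) : ∃ σ : Perm (Fin 6), σ 4 = i ∧ σ 5 = j := by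
  have h1 : (swap 5 j) i ≠ 5 := by
    intro h
    have h2 := congrArg (swap 5 j) h
    rw [swap_apply_self, swap_apply_left] at h2
    exact hij h2
  refine ⟨swap 5 j * swap 4 ((swap 5 j) i), ?_, ?_⟩
  · rw [Perm.mul_apply, swap_apply_left, swap_apply_self]
  · rw [Perm.mul_apply, swap_apply_of_ne_of_ne (by decide) h1.symm, swap_apply_left]

theorem r_comm (i j : Fin 6) : Commute (d.r i) (d.r j) := by
  by_cases hij : i = j
  · rw [hij]
  obtain ⟨σ, h1, h2⟩ := exists_perm hij
  have h3 : Commute (d.r 4) (d.r 5) := by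
    rw [r_five]; exact d.hcomm
  have h4 := h3.map (MulAut.conj (d.S σ)).toMonoidHom
  have h5 : ∀ k, (MulAut.conj (d.S σ)).toMonoidHom (d.r k) = d.r (σ k) := fun k => d.r_conj σ k
  rw [h5, h5, h1, h2] at h4
  exact h4

theorem r_ne {i j : Fin 6} (hij : i ≠ j) : d.r i ≠ d.r j := by
  obtain ⟨σ, h1, h2⟩ := exists_perm hij
  intro h
  rw [← h1, ← h2, ← d.r_conj, ← d.r_conj] at h
  have h3 : d.r 4 = d.r 5 := mul_left_cancel (mul_right_cancel h)
  rw [r_five] at h3
  exact d.ne h3

theorem r_pow (i : Fin 6) : d.r i ^ 3 = 1 := by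
  unfold r
  rw [conj_pow, d.c3]; group

/-- the powers of one of the elements -/
def ph (i : Fin 6) : Multiplicative (ZMod 3) →* G :=
  MonoidHom.mk' (fun k => d.r i ^ (Multiplicative.toAdd k).val) (by
    intro a b
    rw [← pow_add, toAdd_mul, ZMod.val_add, ← pow_eq_pow_mod _ (d.r_pow i)])

theorem ph_apply (i : Fin 6) (k : ZMod 3) : d.ph i (Multiplicative.ofAdd k) = d.r i ^ k.val := rfl

theorem ph_comm : Pairwise fun i j => ∀ x y, Commute (d.ph i x) (d.ph j y) :=
  fun i j _ _ _ => (d.r_comm i j).pow_pow _ _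

/-- the homomorphism on `(ZMod 3)^6` -/
noncomputable def RH : (Fin 6 → Multiplicative (ZMod 3)) →* G :=
  MonoidHom.noncommPiCoprod d.ph d.ph_comm

theorem RH_mulSingle (i : Fin 6) (x : Multiplicative (ZMod 3)) : d.RH (Pi.mulSingle i x) = d.ph i x :=
  MonoidHom.noncommPiCoprod_mulSingle d.ph i x

/-- the homomorphism on `(ZMod 3)^6` -/
noncomputable def R (e : Fin 6 → ZMod 3) : G := d.RH (fun i => Multiplicative.ofAdd (e i))

theorem R_add (e f : Fin 6 → ZMod 3) : d.R (e + f) = d.R e * d.R f := by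
  unfold R
  rw [← map_mul]
  rfl

theorem R_zero : d.R 0 = 1 := by
  unfold R
  exact d.RH.map_one

theorem R_neg (e : Fin 6 → ZMod 3) : d.R (-e) = (d.R e)⁻¹ := by
  rw [eq_inv_iff_mul_eq_one, ← R_add, neg_add_cancel, R_zero]

theorem R_sub (e f : Fin 6 → ZMod 3) : d.R (e - f) = d.R e * (d.R f)⁻¹ := by
  rw [sub_eq_add_neg, R_add, R_neg]

theorem R_comm (e f : Fin 6 → ZMod 3) : Commute (d.R e) (d.R f) := by
  show d.R e * d.R f = d.R f * d.R e
  rw [← R_add, ← R_add, add_comm]

theorem R_single (i : Fin 6) (k : ZMod 3) : d.R (Pi.single i k) = d.r i ^ k.val := by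
  have h1 : (fun j => Multiplicative.ofAdd ((Pi.single i k : Fin 6 → ZMod 3) j)) =
      Pi.mulSingle i (Multiplicative.ofAdd k) := by
    ext j
    by_cases h : j = i
    · subst h; simp
    · simp [h]
  unfold R
  rw [h1, RH_mulSingle, ph_apply]

theorem R_single_one (i : Fin 6) : d.R (Pi.single i 1) = d.r i := by
  rw [R_single, ZMod.val_one, pow_one]

theorem R_conj (σ : Perm (Fin 6)) (e : Fin 6 → ZMod 3) : d.S σ * d.R e * (d.S σ)⁻¹ = d.R (fun i => e (σ⁻¹ i)) := by
  let f : (Fin 6 → Multiplicative (ZMod 3)) →* G := (MulAut.conj (d.S σ)).toMonoidHom.comp d.RH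
  let g : (Fin 6 → Multiplicative (ZMod 3)) →* G :=
    d.RH.comp ⟨⟨fun e i => e (σ⁻¹ i), rfl⟩, fun _ _ => rfl⟩
  have h1 : f = g := by
    apply MonoidHom.pi_ext
    intro i x
    have e2 : (fun j => (Pi.mulSingle i x : Fin 6 → Multiplicative (ZMod 3)) (σ⁻¹ j)) = Pi.mulSingle (σ i) x := by
      ext j
      by_cases h : j = σ i
      · subst h; simp
      · have h' : σ⁻¹ j ≠ i := by
          intro h2
          apply h
          rw [← h2]
          exact (σ.apply_symm_apply j).symm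
        rw [Pi.mulSingle_eq_of_ne h', Pi.mulSingle_eq_of_ne h]
    show d.S σ * d.RH (Pi.mulSingle i x) * (d.S σ)⁻¹ = d.RH (fun j => (Pi.mulSingle i x : Fin 6 → Multiplicative (ZMod 3)) (σ⁻¹ j))
    rw [e2, RH_mulSingle, RH_mulSingle]
    show d.S σ * d.r i ^ _ * (d.S σ)⁻¹ = d.r (σ i) ^ _
    rw [← conj_pow, r_conj]
  exact DFunLike.congr_fun h1 (fun i => Multiplicative.ofAdd (e i))

/-- conjugation by a permutation, commuted form -/
theorem S_mul_R (σ : Perm (Fin 6)) (e : Fin 6 → ZMod 3) : d.S σ * d.R e = d.R (fun i => e (σ⁻¹ i)) * d.S σ := by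
  rw [← R_conj]; group

theorem R_eq_one {e : Fin 6 → ZMod 3} (h : d.R e = 1) (i j : Fin 6) : e i = e j := by
  by_contra hne
  have hij : i ≠ j := by rintro rfl; exact hne rfl
  have h1 : d.R (fun k => e ((swap i j)⁻¹ k)) = 1 := by
    rw [← R_conj, h]; group
  have h2 : d.R (e - fun k => e ((swap i j)⁻¹ k)) = 1 := by
    rw [R_sub, h, h1]; group
  have h3 : (e - fun k => e ((swap i j)⁻¹ k)) = Pi.single i (e i - e j) - Pi.single j (e i - e j) := by
    ext k
    simp only [Pi.sub_apply, swap_inv]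
    by_cases hki : k = i
    · subst hki
      rw [swap_apply_left, Pi.single_eq_same, Pi.single_eq_of_ne hij, sub_zero]
    · by_cases hkj : k = j
      · subst hkj
        rw [swap_apply_right, Pi.single_eq_same, Pi.single_eq_of_ne hki]
        ring
      · rw [swap_apply_of_ne_of_ne hki hkj, Pi.single_eq_of_ne hki, Pi.single_eq_of_ne hkj]
        ring
  rw [h3, R_sub, R_single, R_single, mul_inv_eq_one] at h2
  have h4 : ∀ k : ZMod 3, k ≠ 0 → k.val = 1 ∨ k.val = 2 := by decide
  rcases h4 _ (sub_ne_zero.2 hne) with h5 | h5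
  · rw [h5, pow_one, pow_one] at h2
    exact d.r_ne hij h2
  · rw [h5] at h2
    have h6 : ∀ k, d.r k = (d.r k ^ 2)⁻¹ := by
      intro k
      rw [eq_inv_iff_mul_eq_one, ← pow_succ', d.r_pow]
    apply d.r_ne hij
    rw [h6 i, h2, ← h6 j]

theorem S_eq_R {σ : Perm (Fin 6)} {e : Fin 6 → ZMod 3} (h : d.S σ = d.R e) : σ = 1 := by
  ext i
  by_contra hne
  have hne' : σ i ≠ i := fun h => hne (congrArg _ h)
  have h1 := d.r_conj σ i
  have h2 : Commute (d.R e) (d.r i) := by
    rw [← R_single_one]; exact d.R_comm _ _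
  rw [h, h2.eq, mul_inv_cancel_right] at h1
  exact d.r_ne hne' h1.symm

theorem RS_inj {e f : Fin 6 → ZMod 3} {σ τ : Perm (Fin 6)} (h : d.R e * d.S σ = d.R f * d.S τ) :
    σ = τ ∧ d.R e = d.R f := by
  have h1 : d.S (σ * τ⁻¹) = d.R (f - e) := by
    rw [map_mul, map_inv, R_sub, mul_inv_eq_iff_eq_mul]
    have h2 : d.R f * (d.R e)⁻¹ * d.S τ = (d.R e)⁻¹ * (d.R f * d.S τ) := by
      rw [((d.R_comm f e).inv_right).eq]; group
    rw [h2, ← h]; group
  have h2 := d.S_eq_R h1
  have h3 : σ = τ := mul_inv_eq_one.1 h2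
  refine ⟨h3, ?_⟩
  rw [h3] at h
  exact mul_right_cancel h

theorem R_expand (e : Fin 6 → ZMod 3) : d.R e = d.r 0 ^ (e 0).val * (d.r 1 ^ (e 1).val * (d.r 2 ^ (e 2).val *
    (d.r 3 ^ (e 3).val * (d.r 4 ^ (e 4).val * d.r 5 ^ (e 5).val)))) := by
  have h1 : e = (Pi.single (0 : Fin 6) (e 0) : Fin 6 → ZMod 3) + (Pi.single (1 : Fin 6) (e 1) + (Pi.single (2 : Fin 6) (e 2) +
      (Pi.single (3 : Fin 6) (e 3) + (Pi.single (4 : Fin 6) (e 4) + Pi.single (5 : Fin 6) (e 5))))) := by
    ext i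
    fin_cases i <;> simp
  conv_lhs => rw [h1]
  simp only [R_add, R_single]

/-! ### The Sylow subgroup -/

/-- the permutations `(0 1 2)`, `(3 4 5)` -/
def c1 : Perm (Fin 6) := swap 0 1 * swap 1 2
def c2 : Perm (Fin 6) := swap 3 4 * swap 4 5

/-- the elements of the Sylow 3-subgroup of `S₆` -/
def q (a b : ZMod 3) : Perm (Fin 6) := c1 ^ a.val * c2 ^ b.val

theorem q_mul : ∀ a b a' b' : ZMod 3, q a b * q a' b' = q (a + a') (b + b') := by decide

theorem q_inj : ∀ a b a' b' : ZMod 3, q a b = q a' b' → a = a' ∧ b = b' := by decide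

theorem q_inv (a b : ZMod 3) : (q a b)⁻¹ = q (-a) (-b) := by
  rw [inv_eq_iff_mul_eq_one, q_mul, add_neg_cancel, add_neg_cancel]
  rfl

theorem q_zero : q 0 0 = 1 := rfl

variable (hone : d.R (fun _ => 1) = 1)

include hone in
theorem R_const (k : ZMod 3) : d.R (fun _ => k) = 1 := by
  have h2 : d.R (fun _ => 2) = 1 := by
    have : (fun _ => 2 : Fin 6 → ZMod 3) = (fun _ => 1) + (fun _ => 1) := by
      ext i; show (2 : ZMod 3) = 1 + 1; decide
    rw [this, R_add, hone, mul_one]
  have h : ∀ k : ZMod 3, k = 0 ∨ k = 1 ∨ k = 2 := by decide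
  rcases h k with rfl | rfl | rfl
  · exact d.R_zero
  · exact hone
  · exact h2

theorem mul_form (e f : Fin 6 → ZMod 3) (σ τ : Perm (Fin 6)) :
    d.R e * d.S σ * (d.R f * d.S τ) = d.R (fun i => e i + f (σ⁻¹ i)) * d.S (σ * τ) := by
  have h1 : (fun i => e i + f (σ⁻¹ i)) = e + fun i => f (σ⁻¹ i) := rfl
  rw [h1, R_add, map_mul]
  calc d.R e * d.S σ * (d.R f * d.S τ) = d.R e * (d.S σ * d.R f) * d.S τ := by group
    _ = _ := by rw [S_mul_R]; group

theorem inv_form (e : Fin 6 → ZMod 3) (σ : Perm (Fin 6)) :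
    (d.R e * d.S σ)⁻¹ = d.R (fun i => - e (σ i)) * d.S σ⁻¹ := by
  rw [inv_eq_iff_mul_eq_one, mul_form]
  have : (fun i => e i + (fun i => - e (σ i)) (σ⁻¹ i)) = 0 := by
    ext i
    show e i + - e (σ (σ.symm i)) = 0
    rw [σ.apply_symm_apply, add_neg_cancel]
  rw [this, R_zero, mul_inv_cancel, map_one, one_mul]

/-- the Sylow 3-subgroup -/
def P : Subgroup G where
  carrier := {g | ∃ (e : Fin 6 → ZMod 3) (a b : ZMod 3), g = d.R e * d.S (q a b)}
  mul_mem' := by
    rintro _ _ ⟨e, a, b, rfl⟩ ⟨f, a', b', rfl⟩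
    exact ⟨_, a + a', b + b', by rw [mul_form, q_mul]⟩
  one_mem' := ⟨0, 0, 0, by rw [R_zero, q_zero, map_one, one_mul]⟩
  inv_mem' := by
    rintro _ ⟨e, a, b, rfl⟩
    exact ⟨_, -a, -b, by rw [inv_form, q_inv]⟩

theorem mem_P {g : G} : g ∈ d.P ↔ ∃ (e : Fin 6 → ZMod 3) (a b : ZMod 3), g = d.R e * d.S (q a b) := Iff.rfl

/-- add a zero -/
def ex (e : Fin 5 → ZMod 3) : Fin 6 → ZMod 3 := Fin.snoc e 0

theorem ex_last (e : Fin 5 → ZMod 3) : ex e 5 = 0 := by
  show (Fin.snoc e 0 : Fin 6 → ZMod 3) (Fin.last 5) = 0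
  rw [Fin.snoc_last]

theorem ex_cast (e : Fin 5 → ZMod 3) (i : Fin 5) : ex e i.castSucc = e i := by
  show (Fin.snoc e 0 : Fin 6 → ZMod 3) i.castSucc = e i
  rw [Fin.snoc_castSucc]

include hone in
theorem card_P : Nat.card ↥d.P = 3 ^ 7 := by
  let f : (Fin 5 → ZMod 3) × ZMod 3 × ZMod 3 → ↥d.P := fun x => ⟨d.R (ex x.1) * d.S (q x.2.1 x.2.2), _, _, _, rfl⟩
  have hf : Function.Bijective f := by
    constructor
    · rintro ⟨e, a, b⟩ ⟨e', a', b'⟩ h
      have h1 : d.R (ex e) * d.S (q a b) = d.R (ex e') * d.S (q a' b') := congrArg Subtype.val h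
      obtain ⟨h2, h3⟩ := d.RS_inj h1
      obtain ⟨rfl, rfl⟩ := q_inj _ _ _ _ h2
      have h4 : d.R (ex e - ex e') = 1 := by rw [R_sub, h3, mul_inv_cancel]
      have h5 : e = e' := by
        ext i
        have h6 := d.R_eq_one h4 i.castSucc 5
        rw [Pi.sub_apply, Pi.sub_apply, ex_last, ex_last, ex_cast, ex_cast, sub_self, sub_eq_zero] at h6
        rw [h6]
      rw [h5]
    · rintro ⟨g, e, a, b, rfl⟩
      refine ⟨(fun i => e i.castSucc - e 5, a, b), Subtype.ext ?_⟩
      show d.R (ex fun i => e i.castSucc - e 5) * d.S (q a b) = d.R e * d.S (q a b)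
      congr 1
      have h1 : e = (ex fun i => e i.castSucc - e 5) + fun _ => e 5 := by
        ext i
        refine Fin.lastCases ?_ (fun j => ?_) i
        · show e 5 = (ex fun i => e i.castSucc - e 5) 5 + e 5
          rw [ex_last, zero_add]
        · show e j.castSucc = (ex fun i => e i.castSucc - e 5) j.castSucc + e 5
          rw [ex_cast, sub_add_cancel]
      conv_rhs => rw [h1]
      rw [R_add, R_const d hone, mul_one]
  rw [← Nat.card_congr (Equiv.ofBijective f hf), Nat.card_prod, Nat.card_prod, Nat.card_fun, Nat.card_zmod,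
    Nat.card_fin]
  norm_num

end Dat

end Cfsg.Agent.H842.Frame
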