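import Cfsg.Agent.H842.Seven

/-!
# `Fi24`: a Sylow 7-subgroup, kernel checks (helper842)

`cw`, `uw` : words of the elements `c` (central, of order 7) and `u` of the Sylow 7-subgroup `⟨y7, c, u⟩ = 7^(1+2)`.
-/

set_option autoImplicit false
set_option maxRecDepth 100000
set_option Elab.async false

namespace Cfsg.Agent.H842.SevenK

open Cfsg Cfsg.Agent Cfsg.Agent.Lib.PermNet Cfsg.Agent.Lib.PermNetPt Cfsg.Agent.Fischer.Fi24RepDef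
open Cfsg.Agent.LThreeFi24.FiveConj (eqB)
open Cfsg.Agent.H842.Seven (yw uv)
open Cfsg.Spor.Fi24 (Gen)

def cw : List Gen :=
  [.c, .b, .h, .d, .c, .e, .d, .f, .e, .h, .i, .h, .l, .k, .j, .g, .f, .e, .d, .h, .j, .g, .e, .f, .c, .d, .e,
  .b, .c, .d, .h, .i, .g, .e, .f, .d, .e, .b, .c, .d, .h, .j, .g, .f, .e, .d, .c, .b, .a, .b, .c, .d, .h, .g, .e,
  .f, .d, .e, .b, .c, .d, .h, .i, .h, .g, .f, .d, .e, .b, .c, .d, .h, .b, .c, .d, .e, .f, .g, .j, .c, .d, .e, .f,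
  .g, .f, .e, .b, .c, .d, .h, .i, .h, .e, .f, .d, .e, .b, .c, .d, .b, .c, .a, .b, .h]

def uw : List Gen :=
  [.i, .a, .b, .c, .d, .h, .f, .g, .e, .f, .b, .c, .d, .e, .k, .a, .b, .c, .d, .h, .i, .g, .f, .d, .e, .b, .c,
  .d, .h, .j, .g, .f, .e, .d, .c, .b, .a, .l, .k, .i, .a, .b, .c, .d, .h, .e, .f, .d, .e, .c, .d, .h, .i, .f, .d,
  .e, .b, .c, .d, .h, .g, .f, .e, .d, .c, .b, .a, .d, .h, .c, .d, .e, .b, .c, .d, .h, .i, .h, .d, .e, .c, .d, .h,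
  .b, .c, .d, .e, .f, .g, .j, .f, .g, .c, .d, .e, .b, .c, .d, .h, .i, .d, .h, .f, .c, .d, .e, .c, .d, .c, .b, .c,
  .k, .a, .e]

def g0 : List Gen :=
  [.i, .b, .c, .d, .h, .f, .e, .d, .c, .b, .k, .a, .l, .k, .i, .h, .j, .f, .g, .d, .e, .f, .b, .c, .d, .e, .a,
  .b, .c, .d, .h, .i, .h, .d, .e, .b, .c, .d, .h, .j, .g, .f, .e, .d, .c, .b, .a, .l, .d, .e, .c, .d, .h, .i, .f,
  .e, .d, .h, .e, .f, .g, .j, .c, .d, .e, .f, .g, .h, .c, .d, .e, .b, .c, .d, .h, .i, .f, .e, .c, .d, .h, .c, .d,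
  .e, .f, .d, .e, .c, .b, .h, .g, .j]

def g1 : List Gen :=
  [.l, .k, .a, .e, .f, .g, .d, .e, .b, .c, .d, .h, .i, .h, .d, .e, .c, .d, .h, .f, .e, .d, .c, .b, .a, .k, .c,
  .d, .h, .g, .d, .e, .f, .c, .d, .e, .a, .b, .c, .d, .h, .i, .c, .d, .e, .b, .c, .d, .h, .g, .f, .e, .d, .c, .b,
  .a, .c, .d, .h, .f, .g, .e, .f, .d, .e, .b, .c, .d, .h, .i, .d, .h, .g, .e, .f, .d, .e, .c, .d, .h, .b, .c, .d,
  .e, .f, .g, .j, .f, .g, .c, .d, .h, .i, .f, .e, .d, .h, .c, .d, .e, .b, .c, .d, .h, .i, .e, .c, .d, .h, .b, .c,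
  .d, .e, .f, .e, .b, .c, .d, .b, .c]

def g2 : List Gen :=
  [.g, .a, .b, .c, .d, .h, .j, .g, .f, .e, .d, .c, .b, .a, .k, .b, .c, .d, .h, .f, .g, .e, .f, .c, .d, .e, .a,
  .b, .c, .d, .h, .i, .f, .d, .e, .b, .c, .d, .h, .j, .g, .f, .e, .d, .c, .b, .a, .l, .g, .e, .f, .d, .e, .c, .d,
  .h, .i, .j, .g, .f, .d, .e, .c, .d, .h, .e, .f, .g, .j, .b, .c, .d, .e, .f, .g, .c, .d, .h, .e, .f, .d, .e, .c,
  .d, .h, .i, .b, .c, .d, .h, .e, .f, .d, .e, .c, .d, .h, .i, .h, .c, .d, .e, .f, .b, .g]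

def g3 : List Gen :=
  [.e, .b, .c, .d, .h, .i, .f, .e, .a, .b, .c, .d, .h, .g, .f, .e, .d, .c, .b, .a, .k, .h, .i, .b, .c, .d, .h,
  .e, .f, .b, .c, .d, .e, .a, .b, .c, .d, .h, .i, .g, .f, .d, .e, .b, .c, .d, .h, .j, .g, .f, .e, .d, .c, .b, .a,
  .c, .d, .e, .b, .c, .d, .h, .i, .h, .j, .g, .f, .d, .e, .c, .d, .h, .b, .c, .d, .e, .f, .g, .j, .f, .g, .d, .h,
  .i, .f, .e, .b, .c, .d, .h, .e, .f, .c, .d, .e, .b, .c, .d, .h, .i, .f, .d, .e, .c, .d, .h, .e, .d, .b, .c, .g,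
  .d, .a, .j, .f]

def g4 : List Gen :=
  [.l, .d, .h, .e, .f, .b, .c, .d, .e, .a, .b, .c, .d, .h, .f, .g, .e, .f, .b, .c, .d, .e, .a, .b, .c, .d, .h,
  .i, .f, .d, .e, .b, .c, .d, .h, .j, .g, .f, .e, .d, .c, .b, .a, .l, .k, .i, .f, .c, .d, .e, .b, .c, .d, .h, .g,
  .f, .e, .d, .c, .b, .a, .l, .b, .c, .d, .h, .i, .e, .d, .h, .f, .g, .e, .f, .d, .e, .b, .c, .d, .h, .i, .h, .j,
  .g, .e, .f, .d, .e, .c, .d, .h, .f, .g, .j, .b, .c, .d, .e, .f, .g, .i, .d, .h, .e, .f, .d, .e, .b, .c, .d, .h,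
  .c, .d, .b, .c]

def g5 : List Gen :=
  [.f, .c, .e, .d, .h, .g, .d, .e, .f, .c, .d, .e, .b, .c, .d, .h, .i, .g, .e, .f, .c, .d, .e, .b, .c, .d, .h,
  .j, .g, .f, .e, .d, .c, .b, .a, .l, .k, .b, .a, .c, .d, .e, .f, .g, .f, .d, .e, .b, .c, .d, .h, .i, .d, .e, .b,
  .c, .d, .h, .f, .e, .d, .c, .b, .a, .l, .k, .h, .d, .e, .b, .c, .d, .h, .i, .g, .f, .d, .e, .c, .d, .h, .f, .g,
  .j, .b, .c, .d, .e, .f, .g, .f, .d, .e, .c, .d, .h, .e, .f, .c, .d, .e, .c, .d, .h, .f, .b]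

def g6 : List Gen :=
  [.k, .g, .b, .d, .e, .a, .b, .c, .d, .h, .j, .g, .c, .d, .e, .f, .b, .c, .d, .e, .k, .a, .b, .c, .d, .h, .i,
  .g, .f, .d, .e, .b, .c, .d, .h, .j, .g, .f, .e, .d, .c, .b, .a, .l, .k, .f, .e, .d, .h, .c, .d, .e, .f, .b, .c,
  .d, .e, .a, .b, .c, .d, .h, .i, .d, .e, .b, .c, .d, .h, .g, .f, .e, .d, .c, .b, .a, .l, .j, .g, .e, .f, .d, .e,
  .b, .c, .d, .h, .i, .f, .g, .e, .f, .d, .e, .c, .d, .h, .b, .c, .d, .e, .f, .g, .j, .d, .e, .f, .g, .d, .e, .c,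
  .b, .d, .c]

/-- `c` is a 7-cycle of `S₇` -/
theorem chk_c : eqB cw ([.l, .k, .a, .b] ++ (uv ++ Gen.a :: uv.reverse) ++
    (LThreeFi24.SNineK.uw ++ Gen.c :: LThreeFi24.SNineK.uw.reverse)) = true := by decide +kernel

theorem chk_uc : eqB (uw ++ cw) (cw ++ uw) = true := by decide +kernel

theorem chk_uy : eqB (uw ++ yw) (yw ++ cw ++ uw) = true := by decide +kernel

/-- `g0 y^3 = u g0` -/
theorem chk_0 : eqB (g0 ++ yw ++ yw ++ yw) (uw ++ g0) = true := by decide +kernel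

/-- `g1 c⁻¹ = u y g1` -/
theorem chk_1 : eqB (g1 ++ cw.reverse) (uw ++ yw ++ g1) = true := by decide +kernel

/-- `g2 c = u y^2 g2` -/
theorem chk_2 : eqB (g2 ++ cw) (uw ++ yw ++ yw ++ g2) = true := by decide +kernel

/-- `g3 c⁻¹ = u y^3 g3` -/
theorem chk_3 : eqB (g3 ++ cw.reverse) (uw ++ yw ++ yw ++ yw ++ g3) = true := by decide +kernel

/-- `g4 c^(-3) = u y^4 g4` -/
theorem chk_4 : eqB (g4 ++ cw.reverse ++ cw.reverse ++ cw.reverse) (uw ++ yw ++ yw ++ yw ++ yw ++ g4) = true := by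
  decide +kernel

/-- `g5 c^(-2) = u y^5 g5`, `y^5 = y^(-2)` -/
theorem chk_5 : eqB (g5 ++ cw.reverse ++ cw.reverse) (uw ++ yw.reverse ++ yw.reverse ++ g5) = true := by
  decide +kernel

/-- `g6 c^2 = u y^6 g6`, `y^6 = y⁻¹` -/
theorem chk_6 : eqB (g6 ++ cw ++ cw) (uw ++ yw.reverse ++ g6) = true := by decide +kernel

end Cfsg.Agent.H842.SevenK
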