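import Mathlib

/-!
# A trace argument for elements of order 3 acting on a strongly regular graph (helper842)

* `main` : `σ` of order 3 acting on a strongly regular graph with eigenvalues `r, s` on `v` points without fixed point
  and without a point `x` adjacent to `σ x` : then `3 (r - s)` divides `-s v`.
-/

set_option autoImplicit false

namespace Cfsg.Agent.H842.Trace

open Matrix Finset

variable {V : Type*} [Fintype V] [DecidableEq V]

/-- the trace of an idempotent matrix is a natural number -/
theorem trace_idem {M : Matrix V V ℂ} (h : M * M = M) : ∃ n : ℕ, M.trace = n := by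
  have h1 : IsIdempotentElem (Matrix.toLin' M) := by
    show Matrix.toLin' M * Matrix.toLin' M = _
    rw [Module.End.mul_eq_comp, ← Matrix.toLin'_mul, h]
  have h2 := (LinearMap.IsIdempotentElem.isProj_range _ h1).trace
  exact ⟨_, by rw [← Matrix.trace_toLin'_eq]; exact h2⟩

/-- the algebra -/
theorem algebra {A P J : Matrix V V ℂ} {w r s m : ℂ} (hw : w ^ 2 + w + 1 = 0)
    (hP : P * P * P = 1) (hAP : A * P = P * A) (hJP : J * P = J)
    (hA : A * A = (r + s) • A + (-(r * s)) • (1 : Matrix V V ℂ) + m • J) (hne : r - s ≠ 0) :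
    let E := (1 / (3 * (r - s))) • ((A - s • (1 : Matrix V V ℂ)) * (1 + w ^ 2 • P + w • (P * P)))
    E * E = E := by
  intro E
  set B := A - s • (1 : Matrix V V ℂ) with hB
  set F := (1 : Matrix V V ℂ) + w ^ 2 • P + w • (P * P) with hF
  have w3 : w ^ 3 = 1 := by linear_combination (w - 1) * hw
  have w4 : w ^ 4 = w := by linear_combination w * w3
  have hBF : F * B = B * F := by
    rw [hB, hF]
    have h1 : A * (P * P) = P * P * A := by rw [← mul_assoc, hAP, mul_assoc, hAP, ← mul_assoc]
    simp only [add_mul, mul_add, sub_mul, mul_sub, one_mul, mul_one, smul_mul_assoc, mul_smul_comm, hAP, h1]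
    module
  have hFF : F * F = (3 : ℂ) • F := by
    have h4 : P * P * (P * P) = P := by rw [← mul_assoc, hP, one_mul]
    have h3 : P * (P * P) = 1 := by rw [← mul_assoc, hP]
    rw [hF]
    have e1 : w ^ 2 * w ^ 2 = w := by rw [← pow_add]; exact w4
    have e2 : w ^ 2 * w = 1 := by rw [← pow_succ]; exact w3
    have e3 : w * w ^ 2 = 1 := by rw [← pow_succ']; exact w3
    have e4 : w * w = w ^ 2 := (sq w).symm
    simp only [add_mul, mul_add, one_mul, mul_one, smul_mul_assoc, mul_smul_comm, smul_add, smul_smul, h3, h4, hP,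
      e1, e2, e3, e4, one_smul]
    module
  have hBB : B * B = (r - s) • B + m • J := by
    rw [hB, sub_mul, mul_sub, hA]
    simp only [mul_sub, smul_mul_assoc, mul_smul_comm, one_mul, mul_one, smul_smul]
    module
  have hJF : J * F = 0 := by
    rw [hF]
    simp only [mul_add, mul_one, mul_smul_comm, ← mul_assoc, hJP]
    have : J + w ^ 2 • J + w • J = (w ^ 2 + w + 1) • J := by module
    rw [this, hw, zero_smul]
  show ((1 / (3 * (r - s))) • (B * F)) * ((1 / (3 * (r - s))) • (B * F)) = (1 / (3 * (r - s))) • (B * F)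
  have h5 : B * F * (B * F) = (3 * (r - s)) • (B * F) := by
    calc B * F * (B * F) = B * (F * B) * F := by simp only [mul_assoc]
      _ = B * (B * F) * F := by rw [hBF]
      _ = (B * B) * (F * F) := by simp only [mul_assoc]
      _ = ((r - s) • B + m • J) * ((3 : ℂ) • F) := by rw [hBB, hFF]
      _ = (3 * (r - s)) • (B * F) := by
        rw [add_mul, mul_smul_comm, mul_smul_comm, smul_mul_assoc, smul_mul_assoc, hJF, smul_zero, smul_zero, add_zero,
          smul_smul]
  rw [smul_mul_assoc, mul_smul_comm, h5, smul_smul, smul_smul]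
  congr 1
  field_simp

variable (R : V → V → Prop) [DecidableRel R]

theorem main (hs : ∀ x y, R x y → R y x) (hi : ∀ x, ¬ R x x)
    {k l m : ℕ} (hk : ∀ x, (univ.filter fun z => R x z).card = k)
    (hl : ∀ x y, R x y → (univ.filter fun z => R x z ∧ R z y).card = l)
    (hm : ∀ x y, x ≠ y → ¬ R x y → (univ.filter fun z => R x z ∧ R z y).card = m)
    {r s : ℤ} (h1 : r + s = l - m) (h2 : r * s = m - k) (hne : r ≠ s)
    (σ : V ≃ V) (h3 : ∀ x, σ (σ (σ x)) = x) (hR : ∀ x y, R (σ x) (σ y) ↔ R x y)
    (hf : ∀ x, σ x ≠ x) (hn : ∀ x, ¬ R x (σ x)) :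
    ∃ n : ℕ, - s * (Fintype.card V : ℤ) = 3 * (r - s) * n := by
  set A : Matrix V V ℂ := Matrix.of fun x y => if R x y then 1 else 0 with hA
  set P : Matrix V V ℂ := σ.toPEquiv.toMatrix with hP
  set J : Matrix V V ℂ := Matrix.of fun _ _ => 1 with hJ
  have hw : ∃ w : ℂ, w ^ 2 + w + 1 = 0 := by
    have hz := (Complex.isPrimitiveRoot_exp 3 (by norm_num)).geom_sum_eq_zero (by norm_num)
    refine ⟨Complex.exp (2 * Real.pi * Complex.I / (3 : ℕ)), ?_⟩
    rw [sum_range_succ, sum_range_succ, sum_range_succ, sum_range_zero] at hz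
    rw [← hz]; ring
  obtain ⟨w, hw⟩ := hw
  have hP1 : ∀ M : Matrix V V ℂ, P * M = M.submatrix σ id := fun M => PEquiv.toMatrix_toPEquiv_mul σ M
  have hP2 : ∀ M : Matrix V V ℂ, M * P = M.submatrix id σ.symm := fun M => PEquiv.mul_toMatrix_toPEquiv M σ
  have e1 : P * P * P = 1 := by
    rw [mul_assoc, hP1, hP1, ← mul_one P, hP1]
    ext x y
    simp only [submatrix_apply, id]
    rw [h3]
    rfl
  have e2 : A * P = P * A := by
    rw [hP1, hP2]
    ext x y
    simp only [submatrix_apply, id, hA, of_apply]
    have : R x (σ.symm y) ↔ R (σ x) y := by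
      rw [← hR x (σ.symm y), Equiv.apply_symm_apply]
    simp only [this]
  have e3 : J * P = J := by
    rw [hP2]; rfl
  have e4 : A * A = ((r : ℂ) + s) • A + (-((r : ℂ) * s)) • (1 : Matrix V V ℂ) + (m : ℂ) • J := by
    ext x y
    have h4 : (A * A) x y = ((univ.filter fun z => R x z ∧ R z y).card : ℂ) := by
      rw [mul_apply]
      simp only [hA, of_apply]
      rw [card_filter, Nat.cast_sum]
      apply sum_congr rfl
      intro z _
      by_cases a1 : R x z <;> by_cases a2 : R z y <;> simp [a1, a2]
    have h1' : (r : ℂ) + s = l - m := by exact_mod_cast congrArg (Int.cast (R := ℂ)) h1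
    have h2' : (r : ℂ) * s = m - k := by exact_mod_cast congrArg (Int.cast (R := ℂ)) h2
    rw [h4, h1', h2']
    simp only [Matrix.add_apply, Matrix.smul_apply, smul_eq_mul, hA, hJ, of_apply, one_apply]
    by_cases hxy : x = y
    · subst hxy
      have h5 : (univ.filter fun z => R x z ∧ R z x) = univ.filter fun z => R x z := by
        ext z
        simp only [mem_filter, mem_univ, true_and]
        exact ⟨fun h => h.1, fun h => ⟨h, hs _ _ h⟩⟩
      rw [h5, hk, if_neg (hi x), if_pos rfl]
      ring
    · by_cases hr : R x y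
      · rw [hl x y hr, if_pos hr, if_neg hxy]; ring
      · rw [hm x y hxy hr, if_neg hr, if_neg hxy]; ring
  have hne' : (r : ℂ) - s ≠ 0 := by
    rw [sub_ne_zero]
    exact_mod_cast hne
  have h5 := algebra hw e1 e2 e3 e4 hne'
  obtain ⟨n, hn'⟩ := trace_idem h5
  have t1 : A.trace = 0 := by
    simp only [Matrix.trace, diag_apply, hA, of_apply]
    exact sum_eq_zero fun x _ => if_neg (hi x)
  have t2 : (A * P).trace = 0 := by
    rw [hP2]
    simp only [Matrix.trace, diag_apply, hA, submatrix_apply, id, of_apply]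
    refine sum_eq_zero fun x _ => if_neg ?_
    intro h
    apply hn (σ.symm x)
    rw [Equiv.apply_symm_apply]
    exact hs _ _ h
  have t3 : (A * (P * P)).trace = 0 := by
    rw [← mul_assoc, hP2, hP2]
    simp only [Matrix.trace, diag_apply, hA, submatrix_apply, id, of_apply]
    refine sum_eq_zero fun x _ => if_neg ?_
    intro h
    have h6 : σ.symm (σ.symm x) = σ x := by
      rw [Equiv.symm_apply_eq, Equiv.symm_apply_eq, h3]
    rw [h6] at h
    exact hn _ h
  have t4 : P.trace = 0 := by
    rw [← mul_one P, hP1]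
    simp only [Matrix.trace, diag_apply, submatrix_apply, id, one_apply]
    exact sum_eq_zero fun x _ => if_neg (hf x)
  have t5 : (P * P).trace = 0 := by
    have h7 : P * P = P * (P * 1) := by rw [mul_one]
    rw [h7, hP1, hP1]
    simp only [Matrix.trace, diag_apply, submatrix_apply, id, one_apply]
    refine sum_eq_zero fun x _ => if_neg ?_
    intro h
    apply hf x
    have := congrArg σ h
    rw [h3] at this
    exact this.symm
  rw [trace_smul, sub_mul, mul_add, mul_add, mul_one, smul_mul_assoc, one_mul, mul_smul_comm, mul_smul_comm, trace_sub,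
    trace_add, trace_add, trace_smul, trace_smul, trace_smul, trace_add, trace_add, trace_smul, trace_smul, trace_one,
    t1, t2, t3, t4, t5] at hn'
  refine ⟨n, ?_⟩
  have h6 : -(s : ℂ) * (Fintype.card V : ℂ) = 3 * ((r : ℂ) - s) * n := by
    rw [← hn']
    simp only [smul_eq_mul]
    field_simp
    ring
  exact_mod_cast h6

end Cfsg.Agent.H842.Trace
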